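import Cfsg.Agent.LV.Red.Defs
import Cfsg.Prelude.Def_KGroupFacts

/-!
# PQ (S4827, S4887): the rows for the simple groups

`LV.HZ0 p M S` says that all members of the principal block for `M` have degree prime to `p`; here it is used with
an ideal `M` over another prime.

* `Com p q G`: some Sylow `p`-subgroup commutes with some Sylow `q`-subgroup;
* `Fw S`: commuting Sylow subgroups give cross coprime degrees;
* `Cv27 S`, `Cv87 S`: the converse (weak form for S4827, strong form for S4887);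
* `Fa S`: automorphisms of `q`-power order fixing the principal `p`-block;
* `Mu S`: the Schur multiplier is prime to `q`;
* `All K T`: `T` holds for the finite nonabelian simple groups in the family `K`; `Rows T`: all families.
-/

set_option autoImplicit false

namespace Cfsg.Agent.PQ

open Cfsg Cfsg.Agent.LV

universe u

/-- some Sylow `p`-subgroup commutes elementwise with some Sylow `q`-subgroup -/
def Com (p q : ℕ) (G : Type u) [Group G] : Prop :=
  ∃ (P : Sylow p G) (Q : Sylow q G), ∀ x ∈ (P : Subgroup G), ∀ y ∈ (Q : Subgroup G), x * y = y * x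

/-- every member of degree prime to `p` of the principal block for `M` has degree prime to `q` -/
def HZ1 (p q : ℕ) (M : Ideal AlgInt) (G : Type u) [Group G] : Prop :=
  ∀ χ : IrrCharacter G, χ ∈ principalBlock M G → ¬ p ∣ charDegree (χ : G → ℂ) → ¬ q ∣ charDegree (χ : G → ℂ)

/-- the standing hypotheses of the commuting case: different odd primes dividing the order, abelian Sylow
subgroups which commute, none of the primes is a defining characteristic -/
structure Pair (p q : ℕ) (S : Type u) [Group S] : Prop where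
  pp : p.Prime
  pq : q.Prime
  ne : p ≠ q
  p2 : p ≠ 2
  q2 : q ≠ 2
  dp : p ∣ Nat.card S
  dq : q ∣ Nat.card S
  com : Com p q S
  abp : AbS p S
  abq : AbS q S
  nc : ∀ r : ℕ, r.Prime → IsLieTypeChar r S → p ≠ r ∧ q ≠ r

/-- forward: all members of the principal `q`-block have degree prime to `p` -/
def Fw (S : Type) [Group S] : Prop :=
  ∀ (p q : ℕ) (M : Ideal AlgInt), IsPModular q M → Pair p q S → HZ0 p M S

/-- converse, weak form (S4827) -/
def Cv27 (S : Type) [Group S] : Prop :=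
  ∀ (p q : ℕ), p.Prime → q.Prime → p ≠ q → ∀ (Mp Mq : Ideal AlgInt), IsPModular p Mp → IsPModular q Mq →
    p ∣ Nat.card S → q ∣ Nat.card S → HZ0 q Mp S → HZ0 p Mq S → Com p q S

/-- converse, strong form (S4887) -/
def Cv87 (S : Type) [Group S] : Prop :=
  ∀ (p q : ℕ), p.Prime → q.Prime → p ≠ q → ∀ (Mp Mq : Ideal AlgInt), IsPModular p Mp → IsPModular q Mq →
    p ∣ Nat.card S → q ∣ Nat.card S → HZ1 p q Mp S → HZ1 q p Mq S → Com p q S

/-- automorphisms of `q`-power order which fix all members of the principal `p`-block act on a Sylow `p`-subgroup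
like an inner automorphism (`q` odd; `q` does not divide the order, or the Sylow subgroups commute) -/
def Fa (S : Type) [Group S] : Prop :=
  ∀ (p q : ℕ), p.Prime → q.Prime → p ≠ q → q ≠ 2 → ∀ (M : Ideal AlgInt), IsPModular p M →
    p ∣ Nat.card S → (q ∣ Nat.card S → Pair p q S) → ∀ α : MulAut S, (∃ k : ℕ, orderOf α = q ^ k) →
    (∀ χ : IrrCharacter S, χ ∈ principalBlock M S → ∀ g, (χ : S → ℂ) (α g) = (χ : S → ℂ) g) →
    ∃ (P : Sylow p S) (s : S), ∀ x ∈ (P : Subgroup S), α x = s * x * s⁻¹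

/-- in the commuting case `q` does not divide the order of the Schur multiplier -/
def Mu (S : Type) [Group S] : Prop :=
  ∀ (p q : ℕ), Pair p q S →
    ∀ (Γ : Type) [Group Γ] [Finite Γ] (σ : Γ →* S), IsStemExtension σ → ¬ q ∣ Nat.card σ.ker

theorem Com.symm {p q : ℕ} {G : Type u} [Group G] (h : Com p q G) : Com q p G := by
  obtain ⟨P, Q, h⟩ := h
  exact ⟨Q, P, fun y hy x hx => (h x hx y hy).symm⟩

theorem Pair.symm {p q : ℕ} {S : Type u} [Group S] (h : Pair p q S) : Pair q p S :=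
  ⟨h.pq, h.pp, h.ne.symm, h.q2, h.p2, h.dq, h.dp, h.com.symm, h.abq, h.abp, fun r hr hS => (h.nc r hr hS).symm⟩

theorem Cv87.cv27 {S : Type} [Group S] (h : Cv87 S) : Cv27 S :=
  fun p q hp hq hpq Mp Mq hMp hMq h4 h5 h6 h7 =>
    h p q hp hq hpq Mp Mq hMp hMq h4 h5 (fun χ hχ _ => h6 χ hχ) (fun χ hχ _ => h7 χ hχ)

/-- `T` holds for the finite nonabelian simple groups in the family `K` -/
def All (K T : Fam) : Prop :=
  ∀ (S : Type) [Group S] [Finite S], IsSimpleGroup S → ¬ IsMulCommutative S → K S → T S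

theorem All.mono {K L T : Fam} (h : All L T) (hKL : ∀ (S : Type) [Group S], K S → L S) : All K T :=
  fun S _ _ h1 h2 h3 => h S h1 h2 (hKL _ h3)

theorem All.imp {K T U : Fam} (h : All K T) (hTU : ∀ (S : Type) [Group S], T S → U S) : All K U :=
  fun S _ _ h1 h2 h3 => hTU _ (h S h1 h2 h3)

/-- all known simple groups -/
abbrev Known : Fam := fun S _ => IsKnownSimple' S

/-- the classical families -/
structure ClRows (T : Fam) : Prop where
  psl : All (fun S _ => IsPSL S) T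
  psu : All (fun S _ => IsPSU S) T
  psp : All (fun S _ => IsPSp S) T
  odd : All (fun S _ => IsPOmegaOdd S) T
  plus : All (fun S _ => IsPOmegaPlus S) T
  minus : All (fun S _ => IsPOmegaMinus S) T

/-- the exceptional families -/
structure ExRows (T : Fam) : Prop where
  g2 : All (fun S _ => Lie.IsoChevG2 S) T
  f4 : All (fun S _ => Lie.IsoF4 S) T
  e6 : All (fun S _ => Lie.IsoChevE6 S) T
  e7 : All (fun S _ => Lie.IsoE7 S) T
  e8 : All (fun S _ => Lie.IsoE8 S) T
  tw6 : All (fun S _ => Lie.Iso2E6 S) T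
  tw4 : All (fun S _ => Lie.Iso3D4 S) T
  sz : All (fun S _ => Lie.IsoSuzuki S) T
  ree : All (fun S _ => Lie.IsoRee S) T
  tf4 : All (fun S _ => Lie.Iso2F4 S) T

/-- the other families -/
structure NlRows (T : Fam) : Prop where
  alt : All (fun S _ => IsAlternating S) T
  spor : All (fun S _ => IsSporadicGroup S) T
  tits : All (fun S _ => Lie.IsoTits S) T

/-- the rows for all known simple groups -/
theorem all_known {T : Fam} (N : NlRows T) (C : ClRows T) (X : ExRows T) : All Known T := by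
  intro S _ _ hs hn h
  rcases h with h | h | h | h | h | h | h | h | h | h
  · have : Fact (Nat.card S).Prime := ⟨h⟩
    have hc : IsCyclic S := isCyclic_of_prime_card rfl
    exact (hn inferInstance).elim
  · exact N.alt S hs hn h
  · exact C.psl S hs hn h
  · exact C.psp S hs hn h
  · exact C.psu S hs hn h
  · exact C.odd S hs hn h
  · exact C.plus S hs hn h
  · exact C.minus S hs hn h
  · rcases h with h | h | h | h | h | h | h | h | h | h | h
    · exact X.g2 S hs hn h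
    · exact X.f4 S hs hn h
    · exact X.e6 S hs hn h
    · exact X.e7 S hs hn h
    · exact X.e8 S hs hn h
    · exact X.tw6 S hs hn h
    · exact X.tw4 S hs hn h
    · exact X.sz S hs hn h
    · exact X.ree S hs hn h
    · exact X.tf4 S hs hn h
    · exact N.tits S hs hn h
  · exact N.spor S hs hn h

/-- groups of Lie type in some characteristic -/
abbrev LieAny : Fam := fun S _ => ∃ r : ℕ, r.Prime ∧ IsLieTypeChar r S

theorem ex_char (F : Type) [Field F] [Fintype F] : ∃ p : ℕ, p.Prime ∧ CharP F p := by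
  obtain ⟨p, hp⟩ := CharP.exists F
  exact ⟨p, CharP.char_is_prime F p, hp⟩

theorem ClRows.of_lie {T : Fam} (h : All LieAny T) : ClRows T := by
  refine ⟨h.mono ?_, h.mono ?_, h.mono ?_, h.mono ?_, h.mono ?_, h.mono ?_⟩
  · rintro S _ ⟨F, _, _, n, h1, h2, h3⟩
    obtain ⟨p, hp, hF⟩ := ex_char F
    exact ⟨p, hp, .inl ⟨F, _, _, hF, n, h1, h2, h3⟩⟩
  · rintro S _ ⟨F, _, _, n, q, h0, h1, h2, h3⟩
    obtain ⟨p, hp, hF⟩ := ex_char F
    exact ⟨p, hp, .inr (.inr (.inl ⟨F, _, _, hF, n, q, h0, h1, h2, h3⟩))⟩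
  · rintro S _ ⟨F, _, _, n, h1, h2, h3⟩
    obtain ⟨p, hp, hF⟩ := ex_char F
    exact ⟨p, hp, .inr (.inl ⟨F, _, _, hF, n, h1, h2, h3⟩)⟩
  · rintro S _ ⟨F, _, _, n, h1, h2, h3⟩
    obtain ⟨p, hp, hF⟩ := ex_char F
    exact ⟨p, hp, .inr (.inr (.inr (.inl ⟨F, _, _, hF, n, h1, h2, h3⟩)))⟩
  · rintro S _ ⟨F, iF, iT, n, h1, h3⟩
    obtain ⟨p, hp, hF⟩ := ex_char F
    exact ⟨p, hp, .inr (.inr (.inr (.inr (.inl ⟨F, iF, iT, hF, n, h1, h3⟩))))⟩
  · rintro S _ ⟨F, iF, iT, n, a, b, h1, h2, h3⟩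
    obtain ⟨p, hp, hF⟩ := ex_char F
    exact ⟨p, hp, .inr (.inr (.inr (.inr (.inr (.inl ⟨F, iF, iT, hF, n, a, b, h1, h2, h3⟩)))))⟩

theorem ExRows.of_lie {T : Fam} (h : All LieAny T) : ExRows T := by
  have ex : ∀ (p : ℕ) (S : Type) [Group S], IsExceptionalChevChar p S → IsLieTypeChar p S :=
    fun _ _ _ h => .inr (.inr (.inr (.inr (.inr (.inr (.inl h))))))
  have tw : ∀ (p : ℕ) (S : Type) [Group S], IsTwistedE6D4Char p S → IsLieTypeChar p S :=
    fun _ _ _ h => .inr (.inr (.inr (.inr (.inr (.inr (.inr (.inl h)))))))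
  refine ⟨h.mono ?_, h.mono ?_, h.mono ?_, h.mono ?_, h.mono ?_, h.mono ?_, h.mono ?_, h.mono ?_, h.mono ?_,
    h.mono ?_⟩
  · rintro S _ ⟨F, iF, iT, h1, h3⟩
    obtain ⟨p, hp, hF⟩ := ex_char F
    exact ⟨p, hp, ex p S ⟨F, iF, iT, hF, .inl ⟨h1, h3⟩⟩⟩
  · rintro S _ ⟨F, iF, iT, h3⟩
    obtain ⟨p, hp, hF⟩ := ex_char F
    exact ⟨p, hp, ex p S ⟨F, iF, iT, hF, .inr (.inl h3)⟩⟩
  · rintro S _ ⟨F, iF, iT, h3⟩
    obtain ⟨p, hp, hF⟩ := ex_char F
    exact ⟨p, hp, ex p S ⟨F, iF, iT, hF, .inr (.inr (.inl h3))⟩⟩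
  · rintro S _ ⟨F, iF, iT, h3⟩
    obtain ⟨p, hp, hF⟩ := ex_char F
    exact ⟨p, hp, ex p S ⟨F, iF, iT, hF, .inr (.inr (.inr (.inl h3)))⟩⟩
  · rintro S _ ⟨F, iF, iT, h3⟩
    obtain ⟨p, hp, hF⟩ := ex_char F
    exact ⟨p, hp, ex p S ⟨F, iF, iT, hF, .inr (.inr (.inr (.inr h3)))⟩⟩
  · rintro S _ ⟨F, iF, iT, q, h1, h2, h3⟩
    obtain ⟨p, hp, hF⟩ := ex_char F
    exact ⟨p, hp, tw p S ⟨F, iF, iT, hF, q, h1, .inl ⟨h2, h3⟩⟩⟩
  · rintro S _ ⟨F, iF, iT, q, h1, h2, h3⟩
    obtain ⟨p, hp, hF⟩ := ex_char F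
    exact ⟨p, hp, tw p S ⟨F, iF, iT, hF, q, h1, .inr ⟨h2, h3⟩⟩⟩
  · intro S _ h
    exact ⟨2, Nat.prime_two, .inr (.inr (.inr (.inr (.inr (.inr (.inr (.inr (.inl ⟨rfl, h⟩))))))))⟩
  · intro S _ h
    exact ⟨3, Nat.prime_three, .inr (.inr (.inr (.inr (.inr (.inr (.inr (.inr (.inr (.inr ⟨rfl, h⟩)))))))))⟩
  · intro S _ h
    exact ⟨2, Nat.prime_two, .inr (.inr (.inr (.inr (.inr (.inr (.inr (.inr (.inr (.inl ⟨rfl, h⟩)))))))))⟩

/-- the rows from a uniform statement for the groups of Lie type -/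
theorem all_known_of_lie {T : Fam} (N : NlRows T) (h : All LieAny T) : All Known T :=
  all_known N (ClRows.of_lie h) (ExRows.of_lie h)

end Cfsg.Agent.PQ
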