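import Cfsg.Agent.PQ.Red.B
import Cfsg.Agent.S0205

/-!
# PQ: the converse reduction

* `com_glue`: commuting Sylow subgroups from a normal subgroup and its quotient;
* `cv_main`: cross coprime degrees give commuting Sylow subgroups in all finite groups, from the rows `Cv27`, `Fa`.
-/

set_option autoImplicit false

namespace Cfsg.Agent.PQ.Red

open Cfsg Subgroup Cfsg.Agent.LV Cfsg.Agent.H684.BlockTools
open scoped commutatorElement Pointwise

universe u v

variable {p q : ℕ} {M : Ideal AlgInt} {G : Type u} [Group G]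

/-- the `q`-elements act on the Sylow `p`-subgroups of `N` like elements of `N` -/
def Inn2 (p q : ℕ) (N : Subgroup G) : Prop :=
  ∀ P : Sylow p G, ∀ x : G, (∃ k : ℕ, orderOf x = q ^ k) →
    x ∈ N ⊔ centralizer (((P : Subgroup G) ⊓ N : Subgroup G) : Set G)

theorem inn2_of_not_dvd [Finite G] (hp : p.Prime) {N : Subgroup G} (h : ¬ p ∣ Nat.card N) : Inn2 p q N := by
  have : Fact p.Prime := ⟨hp⟩
  intro P x _
  refine mem_sup_right (mem_centralizer_iff.2 fun y hy => ?_)
  obtain ⟨k, hk⟩ := order_of_mem hp P.2 hy.1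
  have h1 : orderOf y ∣ Nat.card N := orderOf_dvd_natCard N hy.2
  rcases Nat.eq_zero_or_pos k with h0 | h0
  · rw [h0, pow_zero, orderOf_eq_one_iff] at hk
    rw [hk, one_mul, mul_one]
  · exact (h ((dvd_pow_self p h0.ne').trans (hk ▸ h1))).elim

/-- the index of the centralizer in `N` -/
theorem cent_relIndex [Finite G] (hp : p.Prime) (hq : q.Prime) (N : Subgroup G) [N.Normal] (h : Com p q N)
    (P : Sylow p G) : ¬ q ∣ (centralizer (((P : Subgroup G) ⊓ N : Subgroup G) : Set G)).relIndex N := by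
  have : Fact p.Prime := ⟨hp⟩
  have : Fact q.Prime := ⟨hq⟩
  have hQ : IsPGroup p ((P : Subgroup G).subgroupOf N) := P.2.comap_of_injective _ Subtype.val_injective
  have hi : ¬ p ∣ ((P : Subgroup G).subgroupOf N).index := H573.not_dvd_relIndex_normal P N
  obtain ⟨Q, h1⟩ := com_given hp h (hQ.toSylow hi)
  have h2 : (Q : Subgroup N) ≤ (centralizer (((P : Subgroup G) ⊓ N : Subgroup G) : Set G)).subgroupOf N := by
    intro y hy
    rw [mem_subgroupOf, mem_centralizer_iff]
    intro x hx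
    exact congrArg Subtype.val (h1 ⟨x, hx.2⟩ hx.1 y hy)
  exact fun hd => Q.not_dvd_index (hd.trans (index_dvd_of_le h2))

theorem mem_of_relIndex [Finite G] (hp : p.Prime) {C R : Subgroup G} (hn : ∀ r ∈ R, ∀ c ∈ C, r * c * r⁻¹ ∈ C)
    (hi : ¬ p ∣ C.relIndex R) {x : G} (hx : x ∈ R) (ho : ∃ k : ℕ, orderOf x = p ^ k) : x ∈ C := by
  have hN : (C.subgroupOf R).Normal := ⟨fun c hc r => hn _ r.2 _ hc⟩
  obtain ⟨k, hk⟩ := ho
  have h1 : (⟨x, hx⟩ : R) ^ (C.subgroupOf R).index ∈ C.subgroupOf R := Subgroup.pow_index_mem _ _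
  have h2 : x ^ C.relIndex R ∈ C := h1
  have h3 : x ∈ zpowers (x ^ C.relIndex R) := by
    rw [mem_zpowers_pow_iff, hk]
    exact (Nat.Coprime.pow_left k ((Nat.Prime.coprime_iff_not_dvd hp).2 hi)).symm
  exact zpowers_le.2 h2 h3

theorem conj_mem_cent {U : Subgroup G} {r c : G} (hr : r ∈ normalizer (U : Set G))
    (hc : c ∈ centralizer (U : Set G)) : r * c * r⁻¹ ∈ centralizer (U : Set G) := by
  rw [mem_centralizer_iff] at hc ⊢
  intro u hu
  have h2 : r⁻¹ * u * r ∈ U := by
    have := (mem_normalizer_iff.1 (inv_mem hr) u).1 hu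
    rwa [inv_inv] at this
  have h3 := hc _ h2
  calc u * (r * c * r⁻¹) = r * ((r⁻¹ * u * r) * c) * r⁻¹ := by group
    _ = r * (c * (r⁻¹ * u * r)) * r⁻¹ := by rw [h3]
    _ = r * c * r⁻¹ * u := by group

/-- **gluing** -/
theorem com_glue [Finite G] (hp : p.Prime) (hq : q.Prime) (hpq : p ≠ q) (N : Subgroup G) [hN : N.Normal]
    (h1 : Com p q (G ⧸ N)) (h2 : Com p q N) (h3 : Inn2 p q N) (h4 : Inn2 q p N) : Com p q G := by
  classical
  have : Fact p.Prime := ⟨hp⟩
  have : Fact q.Prime := ⟨hq⟩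
  obtain ⟨P⟩ : Nonempty (Sylow p G) := inferInstance
  let f := QuotientGroup.mk' N
  have hf : Function.Surjective f := QuotientGroup.mk'_surjective _
  have hfk : f.ker = N := QuotientGroup.ker_mk' _
  obtain ⟨Qb, hQb⟩ := com_given hp h1 (P.mapSurjective hf)
  let U : Subgroup G := (P : Subgroup G) ⊓ N
  let C : Subgroup G := centralizer (U : Set G)
  let H : Subgroup G := (Qb : Subgroup (G ⧸ N)).comap f
  let D : Subgroup G := H ⊓ C
  have hNH : N ≤ H := hfk.ge.trans (ker_le_comap f _)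
  have hHi : ¬ q ∣ H.index := by
    rw [index_comap_of_surjective _ hf]
    exact Qb.not_dvd_index
  have hHK : H ≤ N ⊔ C := by
    obtain ⟨Q, hQ⟩ := Sylow.mapSurjective_surjective hf q Qb
    intro x hx
    have h5 : f x ∈ (Q : Subgroup G).map f := by
      have h6 : f x ∈ (Qb : Subgroup (G ⧸ N)) := hx
      rw [← hQ] at h6
      exact h6
    obtain ⟨y, hy, hyx⟩ := h5
    have h6 : y⁻¹ * x ∈ N := QuotientGroup.eq.1 hyx
    have h7 : x = y * (y⁻¹ * x) := by group
    rw [h7]
    exact mul_mem (h3 P y (order_of_mem hq Q.2 hy)) (mem_sup_left h6)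
  have hDi : ¬ q ∣ D.index := by
    have k2 : D ⊔ N = H := by
      apply le_antisymm (sup_le inf_le_left hNH)
      intro x hx
      obtain ⟨n, hn, c, hc, rfl⟩ := mem_sup_of_normal_left.1 (hHK hx)
      have h5 : c ∈ H := by
        have := H.mul_mem (H.inv_mem (hNH hn)) hx
        rwa [inv_mul_cancel_left] at this
      exact mul_mem (mem_sup_right hn) (mem_sup_left ⟨h5, hc⟩)
    have k3 : D.relIndex H = C.relIndex N := by
      have h5 : D.relIndex (D ⊔ N) = D.relIndex N := by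
        have a1 := relIndex_mul_relIndex (D ⊓ N) D (D ⊔ N) inf_le_left le_sup_left
        have a2 := relIndex_mul_relIndex (D ⊓ N) N (D ⊔ N) inf_le_right le_sup_right
        rw [relIndex_sup_right, inf_relIndex_right] at a2
        rw [inf_relIndex_left, ← a2, mul_comm] at a1
        exact Nat.eq_of_mul_eq_mul_right (Nat.pos_of_ne_zero index_ne_zero_of_finite) a1
      rw [k2] at h5
      rw [h5, ← inf_relIndex_right D N, ← inf_relIndex_right C N]
      congr 1
      apply le_antisymm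
      · exact inf_le_inf_right _ inf_le_right
      · exact le_inf (le_inf (inf_le_right.trans hNH) inf_le_left) inf_le_right
    rw [← relIndex_mul_index (inf_le_left : D ≤ H), k3, hq.dvd_mul]
    exact not_or.2 ⟨cent_relIndex hp hq N h2 P, hHi⟩
  have hPU : ∀ x ∈ (P : Subgroup G), x ∈ normalizer (U : Set G) := by
    intro x hx
    exact inf_normalizer_le_normalizer_inf ⟨le_normalizer hx, by rw [normalizer_eq_top]; trivial⟩
  have hPH : ∀ x ∈ (P : Subgroup G), ∀ y ∈ H, f (x * y * x⁻¹) = f y := by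
    intro x hx y hy
    rw [map_mul, map_mul, map_inv, hQb (f x) ⟨x, hx, rfl⟩ (f y) hy, mul_inv_cancel_right]
  have hPD' : ∀ x ∈ (P : Subgroup G), ∀ y ∈ D, x * y * x⁻¹ ∈ D := by
    intro x hx y hy
    refine ⟨?_, conj_mem_cent (hPU x hx) hy.2⟩
    change f (x * y * x⁻¹) ∈ (Qb : Subgroup (G ⧸ N))
    rw [hPH x hx y hy.1]
    exact hy.1
  have hPD : (P : Subgroup G) ≤ normalizer (D : Set G) := by
    intro x hx
    rw [mem_normalizer_iff]
    intro y
    refine ⟨hPD' x hx y, fun hy => ?_⟩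
    have h5 := hPD' x⁻¹ (inv_mem hx) _ hy
    have h6 : x⁻¹ * (x * y * x⁻¹) * x⁻¹⁻¹ = y := by group
    rwa [h6] at h5
  -- the `p`-elements of `D` are central in `D`
  have hcen : ∀ x ∈ D, (∃ k : ℕ, orderOf x = p ^ k) → x ∈ U := by
    rintro x hx ⟨k, hk⟩
    have h5 : x ∈ N := by
      obtain ⟨j, hj⟩ := order_of_mem hq Qb.2 (show f x ∈ (Qb : Subgroup (G ⧸ N)) from hx.1)
      have h6 : orderOf (f x) ∣ p ^ k := hk ▸ orderOf_map_dvd f x
      have h7 := Nat.dvd_gcd h6 (hj ▸ dvd_rfl : orderOf (f x) ∣ q ^ j)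
      rw [(Nat.Coprime.pow k j ((Nat.coprime_primes hp hq).2 hpq)).gcd_eq_one, Nat.dvd_one,
        orderOf_eq_one_iff] at h7
      exact hfk.le h7
    have hQ : IsPGroup p ((P : Subgroup G).subgroupOf N) := P.2.comap_of_injective _ Subtype.val_injective
    have hi : ¬ p ∣ ((P : Subgroup G).subgroupOf N).index := H573.not_dvd_relIndex_normal P N
    have h6 := H573.mem_sylow_of_commute (hQ.toSylow hi) (x := ⟨x, h5⟩) ⟨k, by rw [← hk, orderOf_mk]⟩
      fun y hy => Subtype.ext (mem_centralizer_iff.1 hx.2 y ⟨hy, y.2⟩)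
    exact ⟨h6, h5⟩
  have hcard : ¬ p ∣ Nat.card (Sylow q D) := by
    obtain ⟨Q₁⟩ : Nonempty (Sylow q D) := inferInstance
    obtain ⟨P₁⟩ : Nonempty (Sylow p D) := inferInstance
    rw [Q₁.card_eq_index_normalizer]
    have h5 : (P₁ : Subgroup D) ≤ normalizer ((Q₁ : Subgroup D) : Set D) := by
      intro x hx
      refine center_le_normalizer _ (mem_center_iff.2 fun g => Subtype.ext ?_)
      obtain ⟨k, hk⟩ := order_of_mem hp P₁.2 hx
      exact (mem_centralizer_iff.1 g.2.2 _ (hcen x x.2 ⟨k, by rw [← hk, orderOf_coe]⟩)).symm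
    exact fun hd => P₁.not_dvd_index (hd.trans (index_dvd_of_le h5))
  let ρ : (P : Subgroup G) →* MulAut D := D.normalizerMonoidHom.comp (inclusion hPD)
  let _ : MulAction (P : Subgroup G) (Sylow q D) := MulAction.compHom _ ρ
  obtain ⟨Q₁, hQ₁⟩ := P.2.nonempty_fixed_point_of_prime_not_dvd_card (Sylow q D) hcard
  have hQp : IsPGroup q ((Q₁ : Subgroup D).map D.subtype) := Q₁.2.map _
  have hQi : ¬ q ∣ ((Q₁ : Subgroup D).map D.subtype).index := by
    rw [index_map_subtype, hq.dvd_mul]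
    exact not_or.2 ⟨Q₁.not_dvd_index, hDi⟩
  let Q : Sylow q G := hQp.toSylow hQi
  have hQD : (Q : Subgroup G) ≤ D := map_subtype_le _
  have hPQ : ∀ x ∈ (P : Subgroup G), ∀ y ∈ (Q : Subgroup G), x * y * x⁻¹ ∈ (Q : Subgroup G) := by
    rintro x hx _ ⟨y, hy, rfl⟩
    have h5 : ρ ⟨x, hx⟩ • Q₁ = Q₁ := hQ₁ ⟨x, hx⟩
    have h6 : ρ ⟨x, hx⟩ • y ∈ ((ρ ⟨x, hx⟩ • Q₁ : Sylow q D) : Subgroup D) :=
      Subgroup.smul_mem_pointwise_smul _ _ _ hy
    rw [h5] at h6
    exact ⟨_, h6, rfl⟩
  -- `P` centralizes `Q ⊓ N`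
  let V : Subgroup G := (Q : Subgroup G) ⊓ N
  have hPV : ∀ x ∈ (P : Subgroup G), x ∈ centralizer (V : Set G) := by
    intro x hx
    have hxV : x ∈ normalizer (V : Set G) := by
      refine inf_normalizer_le_normalizer_inf (mem_inf.2 ⟨?_, by rw [normalizer_eq_top]; trivial⟩)
      rw [mem_normalizer_iff]
      intro y
      refine ⟨hPQ x hx y, fun hy => ?_⟩
      have h5 := hPQ x⁻¹ (inv_mem hx) _ hy
      have h6 : x⁻¹ * (x * y * x⁻¹) * x⁻¹⁻¹ = y := by group
      rwa [h6] at h5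
    let R : Subgroup G := normalizer (V : Set G) ⊓ (N ⊔ centralizer (V : Set G))
    refine mem_of_relIndex hp (R := R) (fun r hr c hc => conj_mem_cent hr.1 hc) ?_
      ⟨hxV, h4 Q x (order_of_mem hp P.2 hx)⟩ (order_of_mem hp P.2 hx)
    have a0 : centralizer (V : Set G) ≤ R := le_inf (centralizer_le_normalizer _) le_sup_right
    have a1 := relIndex_mul_relIndex (centralizer (V : Set G)) R (N ⊔ centralizer (V : Set G)) a0 inf_le_right
    have a2 : (centralizer (V : Set G)).relIndex (N ⊔ centralizer (V : Set G)) =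
        (centralizer (V : Set G)).relIndex N := by
      have b1 := relIndex_mul_relIndex (centralizer (V : Set G) ⊓ N) (centralizer (V : Set G))
        (centralizer (V : Set G) ⊔ N) inf_le_left le_sup_left
      have b2 := relIndex_mul_relIndex (centralizer (V : Set G) ⊓ N) N (centralizer (V : Set G) ⊔ N)
        inf_le_right le_sup_right
      rw [relIndex_sup_right, inf_relIndex_right] at b2
      rw [inf_relIndex_left, ← b2, mul_comm] at b1
      rw [sup_comm]
      exact Nat.eq_of_mul_eq_mul_right (Nat.pos_of_ne_zero index_ne_zero_of_finite) b1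
    intro hd
    refine cent_relIndex hq hp N h2.symm Q ?_
    change p ∣ (centralizer (V : Set G)).relIndex N
    rw [← a2, ← a1]
    exact hd.mul_right _
  refine ⟨P, Q, fun x hx y hy => ?_⟩
  have hz : y⁻¹ * (x * y * x⁻¹) ∈ V := by
    refine mem_inf.2 ⟨mul_mem (inv_mem hy) (hPQ x hx y hy), hfk.le ?_⟩
    rw [MonoidHom.mem_ker, map_mul, hPH x hx y (hQD hy).1, map_inv, inv_mul_cancel]
  set z := y⁻¹ * (x * y * x⁻¹) with hzd
  have hzx : z * x = x * z := mem_centralizer_iff.1 (hPV x hx) z hz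
  have e1 : x * y * x⁻¹ = y * z := by rw [hzd]; group
  have e2 : ∀ k : ℕ, x ^ k * y * (x ^ k)⁻¹ = y * z ^ k := by
    intro k
    induction k with
    | zero => simp
    | succ k ih =>
      have c1 : Commute x (z ^ k) := (show Commute x z from hzx.symm).pow_right k
      calc x ^ (k + 1) * y * (x ^ (k + 1))⁻¹ = x * (x ^ k * y * (x ^ k)⁻¹) * x⁻¹ := by rw [pow_succ']; group
        _ = (x * y * x⁻¹) * (x * z ^ k * x⁻¹) := by rw [ih]; group
        _ = y * z ^ (k + 1) := by rw [e1, c1.eq, mul_inv_cancel_right, pow_succ', mul_assoc]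
  obtain ⟨a, ha⟩ := order_of_mem hp P.2 hx
  obtain ⟨b, hb⟩ := order_of_mem hq Q.2 hz.1
  have e3 := e2 (orderOf x)
  rw [pow_orderOf_eq_one, one_mul, inv_one, mul_one, left_eq_mul, ha] at e3
  have e4 := Nat.dvd_gcd (orderOf_dvd_of_pow_eq_one e3) (hb ▸ dvd_rfl : orderOf z ∣ q ^ b)
  rw [(Nat.Coprime.pow a b ((Nat.coprime_primes hp hq).2 hpq)).gcd_eq_one, Nat.dvd_one, orderOf_eq_one_iff] at e4
  rw [e4, mul_one] at e1
  calc x * y = x * y * x⁻¹ * x := by group
    _ = y * x := by rw [e1]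

/-- an abelian normal `p`-subgroup -/
theorem inn2_of_ab [Finite G] (hM : IsPModular p M) (hq : q.Prime) (h : HZ0 q M G) (N : Subgroup G) [N.Normal]
    (hN : IsPGroup p N) (hab : ∀ a b : N, a * b = b * a) : Inn2 p q N := by
  intro P x hx
  refine mem_sup_right (mem_centralizer_iff.2 fun y hy => ?_)
  obtain ⟨j, hj⟩ := order_of_mem hM.1 hN hy.2
  have h1 := isConj_of_fix hM (MulAut.conjNormal x : MulAut N) (fix_q hM hq h N hx) (g := ⟨y, hy.2⟩)
    ⟨j, by rw [← hj, orderOf_mk]⟩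
  obtain ⟨c, hc⟩ := isConj_iff.1 h1
  rw [hab c, mul_assoc, mul_inv_cancel, mul_one] at hc
  have h2 := congrArg (Subtype.val : N → G) hc
  rw [MulAut.conjNormal_apply] at h2
  have h3 : x * y * x⁻¹ = y := h2
  calc y * x = x * y * x⁻¹ * x := by rw [h3]
    _ = x * y := by group

/-- `Fa` for all `p`-subgroups -/
theorem fa_sub {S : Type} [Group S] [Finite S] [hs : IsSimpleGroup S] (hn : ¬ IsMulCommutative S) (hFa : Fa S)
    (hM : IsPModular p M) (hq : q.Prime) (hpq : p ≠ q) (dp : p ∣ Nat.card S) (hc : Com p q S) (α : MulAut S)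
    (ho : ∃ k : ℕ, orderOf α = q ^ k)
    (hfix : ∀ χ ∈ principalBlock M S, ∀ g, (χ : S → ℂ) (α g) = (χ : S → ℂ) g) (U : Subgroup S)
    (hU : IsPGroup p U) : ∃ s : S, ∀ y ∈ U, α y = s * y * s⁻¹ := by
  have hp : p.Prime := hM.1
  have : Fact p.Prime := ⟨hp⟩
  have hq2 : q ≠ 2 := by
    rintro rfl
    have h2 : 2 ∣ Nat.card S := by
      by_contra h2
      have hodd : Odd (Nat.card S) := Nat.odd_iff.2 (Nat.two_dvd_ne_zero.1 h2)
      have hsol : Group.IsSolvable S := S0205.result hodd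
      exact hn ⟨⟨IsSimpleGroup.comm_iff_isSolvable.2 hsol⟩⟩
    exact (pair_of_com hn hp hq hpq dp h2 hc).q2 rfl
  obtain ⟨P, s, hs⟩ := hFa p q hp hq hpq hq2 M hM dp (fun dq => pair_of_com hn hp hq hpq dp dq hc) α ho hfix
  obtain ⟨P', hP'⟩ := hU.exists_le_sylow
  obtain ⟨t, ht⟩ := MulAction.exists_smul_eq S P P'
  refine ⟨α t * s * t⁻¹, fun y hy => ?_⟩
  have h1 := hP' hy
  rw [← ht, Sylow.coe_subgroup_smul, mem_smul_pointwise_iff_exists] at h1
  obtain ⟨w, hw, rfl⟩ := h1
  change α (t * w * t⁻¹) = α t * s * t⁻¹ * (t * w * t⁻¹) * (α t * s * t⁻¹)⁻¹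
  rw [map_mul, map_mul, map_inv, hs w hw]
  group

/-- a product of nonabelian simple groups -/
theorem inn2_of_prod {G : Type} [Group G] [Finite G] (hFa : All Known Fa) (hM : IsPModular p M) (hq : q.Prime)
    (hpq : p ≠ q) (h : HZ0 q M G) (N : Subgroup G) [hNn : N.Normal] {m : ℕ} (S : Fin m → Subgroup G)
    (hSN : ∀ i, S i ≤ N) (hS : ∀ i, IsSimpleGroup (S i)) (hSna : ∀ i, ¬ ∀ a b : S i, a * b = b * a)
    (hd : ∀ i, p ∣ Nat.card (S i)) (hcomm : ∀ i j, i ≠ j → ∀ x ∈ S i, ∀ y ∈ S j, Commute x y)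
    (hsup : ⨆ i, S i = N) (hc : Com p q N) : Inn2 p q N := by
  classical
  have hp : p.Prime := hM.1
  have : Fact p.Prime := ⟨hp⟩
  have hNS : ∀ i, ∀ n ∈ N, ∀ g ∈ S i, n * g * n⁻¹ ∈ S i := fun i n hn g hg =>
    H693.PB.normalizes_factor S hcomm i (by rw [hsup]; exact hn) hg
  have hnorm : ∀ i, ∀ x : G, (∃ k : ℕ, orderOf x = q ^ k) → x ∈ normalizer (S i : Set G) := by
    intro i x hx
    obtain ⟨y, hy⟩ := exists_prime_orderOf_dvd_card' (G := S i) p (hd i)
    have hy1 : (y : G) ≠ 1 := by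
      intro h1
      rw [show y = 1 from Subtype.ext h1, orderOf_one] at hy
      exact hp.one_lt.ne hy
    have h1 := isConj_of_fix hM (MulAut.conjNormal x : MulAut N) (fix_q hM hq h N hx) (g := ⟨y, hSN i y.2⟩)
      ⟨1, by rw [pow_one, ← hy, orderOf_mk, orderOf_coe]⟩
    obtain ⟨c, hc⟩ := isConj_iff.1 h1.symm
    have h2 := congrArg (Subtype.val : N → G) hc
    rw [MulAut.conjNormal_apply] at h2
    refine norm_of_elem N (hSN i) (hS i) (hNS i) y.2 hy1 ?_
    have h3 : (c : G) * y * (c : G)⁻¹ = x * y * x⁻¹ := h2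
    rw [← h3]
    exact hNS i _ c.2 _ y.2
  intro P x hx
  have key : ∀ i, ∀ U : Subgroup (S i), IsPGroup p U → ∃ s : S i, ∀ y ∈ U, x * (y : G) * x⁻¹ = s * y * s⁻¹ := by
    intro i U hU
    let L : Subgroup G := (normalizer (S i : Set G)).normalCore
    have hNL : N ≤ L := by
      refine normal_le_normalCore.2 ?_
      intro n hn
      rw [mem_normalizer_iff]
      intro g
      refine ⟨hNS i n hn g, fun hg => ?_⟩
      have h5 := hNS i _ (inv_mem hn) _ hg
      have h6 : n⁻¹ * (n * g * n⁻¹) * n⁻¹⁻¹ = g := by group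
      rwa [h6] at h5
    have hxL : x ∈ L := by
      intro g
      refine hnorm i _ ?_
      obtain ⟨k, hk⟩ := hx
      exact ⟨k, by rw [← hk]; exact MulEquiv.orderOf_eq (MulAut.conj g) x⟩
    have hSL : S i ≤ L := (hSN i).trans hNL
    have hT : ((S i).subgroupOf L).Normal :=
      ⟨fun a ha b => (mem_normalizer_iff.1 (normalCore_le _ b.2) _).1 ha⟩
    let e := subgroupOfEquivOfLe hSL
    have hx' : ∃ k : ℕ, orderOf (⟨x, hxL⟩ : L) = q ^ k := by
      obtain ⟨k, hk⟩ := hx
      exact ⟨k, by rw [← hk, orderOf_mk]⟩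
    have h1 := fix_q hM hq (hz_normal hM h L) ((S i).subgroupOf L) hx'
    let α : MulAut (S i) := (S i).normalizerMonoidHom ⟨x, hnorm i x hx⟩
    have hsi := hS i
    have hna : ¬ IsMulCommutative (S i) := fun hab => hSna i fun a b => hab.is_comm.comm a b
    have hci : Com p q (S i) := by
      have hnor : ((S i).subgroupOf N).Normal := ⟨fun a ha b => hNS i _ b.2 _ ha⟩
      exact com_surj hp hq (com_normal hp hq hc ((S i).subgroupOf N)) (subgroupOfEquivOfLe (hSN i)).toMonoidHom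
        (subgroupOfEquivOfLe (hSN i)).surjective
    obtain ⟨s, hs⟩ := fa_sub hna (hFa _ hsi hna S0000.result) hM hq hpq (hd i) hci α (by
      obtain ⟨k, hk⟩ := hx
      have h2 : orderOf α ∣ q ^ k := by
        refine (orderOf_map_dvd _ _).trans ?_
        rw [orderOf_mk, hk]
      obtain ⟨j, -, hj⟩ := (Nat.dvd_prime_pow hq).1 h2
      exact ⟨j, hj⟩) (fun χ hχ g => h1 _ (infl_mem hM e.toMonoidHom e.surjective hχ) (e.symm g)) U hU
    exact ⟨s, fun y hy => congrArg Subtype.val (hs y hy)⟩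
  have hcomm' : Pairwise fun i j : Fin m => ∀ x y : G, x ∈ S i → y ∈ S j → Commute x y :=
    fun i j hij x y hx hy => hcomm i j hij x hx y hy
  let φ := Subgroup.noncommPiCoprod hcomm'
  have hφ : ∀ (v : ∀ i, S i) (i : Fin m) (g : S i), φ v * g * (φ v)⁻¹ = v i * g * (v i)⁻¹ := by
    intro v i g
    have h1 : v * Pi.mulSingle i g * v⁻¹ = Pi.mulSingle i (v i * g * (v i)⁻¹) := by
      funext j
      by_cases hij : j = i
      · subst hij
        simp
      · simp [Pi.mulSingle_eq_of_ne hij]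
    have h2 := congrArg φ h1
    rw [map_mul, map_mul, map_inv, Subgroup.noncommPiCoprod_mulSingle, Subgroup.noncommPiCoprod_mulSingle] at h2
    exact h2
  have hr : φ.range = N := by rw [Subgroup.noncommPiCoprod_range, hsup]
  let T : ∀ i, Subgroup (S i) := fun i =>
    (((P : Subgroup G) ⊓ N).comap φ).map (Pi.evalMonoidHom (fun i => S i) i)
  have hT : ∀ i, IsPGroup p (T i) := by
    rintro i ⟨_, v, hv, rfl⟩
    obtain ⟨k, hk⟩ := order_of_mem hp P.2 (show φ v ∈ (P : Subgroup G) from hv.1)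
    refine ⟨k, Subtype.ext ?_⟩
    change (v i) ^ p ^ k = 1
    have h1 : φ (v ^ p ^ k) = 1 := by rw [map_pow, ← hk, pow_orderOf_eq_one]
    have h2 : (v ^ p ^ k) i ∈ center (S i) := by
      rw [mem_center_iff]
      intro g
      have h3 := hφ (v ^ p ^ k) i g
      rw [h1, one_mul, inv_one, mul_one] at h3
      have h4 : g = (v ^ p ^ k) i * g * ((v ^ p ^ k) i)⁻¹ := Subtype.ext h3
      calc g * (v ^ p ^ k) i = (v ^ p ^ k) i * g * ((v ^ p ^ k) i)⁻¹ * (v ^ p ^ k) i := by rw [← h4]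
        _ = (v ^ p ^ k) i * g := by group
    rcases (hS i).eq_bot_or_eq_top_of_normal (center (S i)) inferInstance with h3 | h3
    · rw [h3, mem_bot] at h2
      exact h2
    · exact (hSna i fun a b => mem_center_iff.1 (h3 ▸ mem_top b : b ∈ center (S i)) a).elim
  choose s hs using fun i => key i (T i) (hT i)
  have h1 : x = φ s * ((φ s)⁻¹ * x) := by group
  rw [h1]
  refine mul_mem_sup (hr ▸ ⟨s, rfl⟩) (mem_centralizer_iff.2 fun y hy => ?_)
  obtain ⟨v, rfl⟩ : y ∈ φ.range := hr ▸ hy.2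
  rw [Subgroup.noncommPiCoprod_apply]
  refine (Finset.noncommProd_commute _ _ _ _ fun i _ => ?_).symm
  have h2 : x * (v i : G) * x⁻¹ = φ s * v i * (φ s)⁻¹ := (hs i (v i) ⟨v, hy, rfl⟩).trans (hφ s i (v i)).symm
  change (φ s)⁻¹ * x * (v i : G) = v i * ((φ s)⁻¹ * x)
  calc (φ s)⁻¹ * x * (v i : G) = (φ s)⁻¹ * (x * v i * x⁻¹) * x := by group
    _ = v i * ((φ s)⁻¹ * x) := by rw [h2]; group

/-- **the converse reduction** -/
theorem cv_main (hCv : All Known Cv27) (hFa : All Known Fa) {Mp Mq : Ideal AlgInt} (hpq : p ≠ q)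
    (hMp : IsPModular p Mp) (hMq : IsPModular q Mq) :
    ∀ (n : ℕ) (G : Type) [Group G] [Finite G], Nat.card G = n → HZ0 q Mp G → HZ0 p Mq G → Com p q G := by
  have hp : p.Prime := hMp.1
  have hq : q.Prime := hMq.1
  intro n
  induction n using Nat.strong_induction_on with
  | _ n ih =>
  intro G _ _ hn h1 h2
  by_cases dq : q ∣ Nat.card G
  swap
  · exact com_of_not_dvd hp hq dq
  by_cases dp : p ∣ Nat.card G
  swap
  · exact (com_of_not_dvd hq hp dp).symm
  have htop : (⊤ : Subgroup G) ≠ ⊥ := by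
    intro h
    rw [← card_top, h, card_bot] at dp
    exact hp.one_lt.ne' (Nat.dvd_one.1 dp)
  obtain ⟨N, hNn, -, hN0, hmin⟩ := H364.exists_minimal_normal_le (⊤ : Subgroup G) inferInstance htop
  have hquot : Com p q (G ⧸ N) := ih _ (hn ▸ card_quot_lt hN0) (G ⧸ N) rfl
    (hz_surj hMp h1 _ (QuotientGroup.mk'_surjective N)) (hz_surj hMq h2 _ (QuotientGroup.mk'_surjective N))
  rcases H364.minimal_normal_cases2 N hN0 hmin with ⟨r, hr, hrN⟩ |
    ⟨m, S, hm, hSN, hS, hSna, hSt, -, hScomm, hSsup⟩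
  · have : Fact r.Prime := ⟨hr⟩
    have hNab : ∀ a b : N, a * b = b * a := by
      have h3 : ((Subgroup.center N).map N.subtype) = N := by
        rcases hmin ((Subgroup.center N).map N.subtype) inferInstance
          (Subgroup.map_subtype_le _) with h3 | h3
        · exfalso
          rw [Subgroup.map_eq_bot_iff_of_injective _ N.subtype_injective] at h3
          have : Nontrivial N := (Subgroup.nontrivial_iff_ne_bot N).2 hN0
          have := hrN.center_nontrivial
          exact (Subgroup.nontrivial_iff_ne_bot _).1 this h3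
        · exact h3
      intro a b
      have h4 : (a : G) ∈ (Subgroup.center N).map N.subtype := by rw [h3]; exact a.2
      obtain ⟨c, hc, hca⟩ := h4
      have h5 : c = a := Subtype.ext hca
      rw [h5] at hc
      exact ((Subgroup.mem_center_iff.1 hc) b).symm
    obtain ⟨j, hj⟩ := IsPGroup.iff_card.1 hrN
    have key : ∀ t : ℕ, t.Prime → t ≠ r → ¬ t ∣ Nat.card N := fun t ht htr hd =>
      htr ((Nat.prime_dvd_prime_iff_eq ht hr).1 (ht.dvd_of_dvd_pow (hj ▸ hd)))
    by_cases hpr : p = r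
    · subst hpr
      exact com_glue hp hq hpq N hquot (com_of_not_dvd hp hq (key q hq hpq.symm))
        (inn2_of_ab hMp hq h1 N hrN hNab) (inn2_of_not_dvd hq (key q hq hpq.symm))
    by_cases hqr : q = r
    · subst hqr
      exact com_glue hp hq hpq N hquot (com_of_not_dvd hq hp (key p hp hpq)).symm
        (inn2_of_not_dvd hp (key p hp hpq)) (inn2_of_ab hMq hp h2 N hrN hNab)
    exact com_glue hp hq hpq N hquot (com_of_not_dvd hp hq (key q hq hqr))
      (inn2_of_not_dvd hp (key p hp hpr)) (inn2_of_not_dvd hq (key q hq hqr))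
  · by_cases hNt : N = ⊤
    · -- all factors are normal
      let i : Fin m := ⟨0, hm⟩
      have hSn : (S i).Normal := ⟨fun g hg n =>
        H693.PB.normalizes_factor S hScomm i (by rw [hSsup, hNt]; trivial) hg⟩
      have hs := hS i
      have hSe : S i = ⊤ := by
        rcases hmin _ hSn (hSN i) with h | h
        · exact ((Subgroup.nontrivial_iff_ne_bot _).1 hs.toNontrivial h).elim
        · exact h.trans hNt
      have hsim : IsSimpleGroup G := by
        rw [hSe] at hs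
        have : Nontrivial G := by
          rw [← Subgroup.nontrivial_iff (G := G)]
          exact ⟨⊤, ⊥, htop⟩
        exact IsSimpleGroup.isSimpleGroup_of_surjective (⊤ : Subgroup G).subtype fun x => ⟨⟨x, mem_top x⟩, rfl⟩
      have hna : ¬ IsMulCommutative G := fun h => hSna i fun a b => Subtype.ext (h.is_comm.comm _ _)
      exact hCv G hsim hna S0000.result p q hp hq hpq Mp Mq hMp hMq dp dq h1 h2
    have hc : Com p q N := ih _ (hn ▸ card_lt_of_ne_top hNt) N rfl (hz_normal hMp h1 N) (hz_normal hMq h2 N)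
    refine com_glue hp hq hpq N hquot hc ?_ ?_
    · by_cases hd : p ∣ Nat.card N
      · exact inn2_of_prod hFa hMp hq hpq h1 N S hSN hS hSna (hSt p hp hd) hScomm hSsup hc
      · exact inn2_of_not_dvd hp hd
    · by_cases hd : q ∣ Nat.card N
      · exact inn2_of_prod hFa hMq hp hpq.symm h2 N S hSN hS hSna (hSt q hq hd) hScomm hSsup hc.symm
      · exact inn2_of_not_dvd hq hd

end Cfsg.Agent.PQ.Red
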