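import Cfsg.Agent.PQ.Red.Main
import Cfsg.Agent.PQ.Alt.Main
import Cfsg.Agent.PQ.Spor.Main
import Cfsg.Agent.PQ.Mu.Main
import Cfsg.Agent.PQ.Fa.Main
import Cfsg.Agent.PQ.SS.Cv27
import Cfsg.Agent.PQ.Sm.Row
import Cfsg.Agent.LV.A.Rows

/-!
# PQ: assembly of the rows which are proved (helper72)

* `Left`: the forward rows which are still open;
* `fw_of`, `cv27`, `cv87_of`: the rows for all known simple groups;
* `s4827_of`, `s4887_of`: the two statements from the open rows.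
-/

set_option autoImplicit false

namespace Cfsg.Agent.PQ.Asm

open Cfsg Cfsg.Agent.LV Cfsg.Agent.PQ.Red

universe u

/-- the forward rows of the symplectic and orthogonal groups -/
structure LeftCl : Prop where
  psp : All (fun S _ => IsPSp S) Fw
  odd : All (fun S _ => IsPOmegaOdd S) Fw
  plus : All (fun S _ => IsPOmegaPlus S) Fw
  minus : All (fun S _ => IsPOmegaMinus S) Fw

/-- the forward rows of the large exceptional groups -/
structure LeftEx : Prop where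
  f4 : All (fun S _ => Lie.IsoF4 S) Fw
  e6 : All (fun S _ => Lie.IsoChevE6 S) Fw
  e7 : All (fun S _ => Lie.IsoE7 S) Fw
  e8 : All (fun S _ => Lie.IsoE8 S) Fw
  tw6 : All (fun S _ => Lie.Iso2E6 S) Fw

theorem fw_of (C : LeftCl) (X : LeftEx) : All Known Fw :=
  all_known ⟨Alt.fw, Spor.fwSpor, Spor.fwTits⟩ ⟨LV.A.fw_psl, LV.A.fw_psu, C.psp, C.odd, C.plus, C.minus⟩
    ⟨Sm.fw_g2, X.f4, X.e6, X.e7, X.e8, X.tw6, Sm.fw_tw4, Sm.fw_sz, Sm.fw_ree, Sm.fw_tf4⟩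

theorem nl87 : NlRows Cv87 := ⟨Alt.cv87, Spor.cvSpor, Spor.cvTits⟩

theorem cv27 : All Known Cv27 :=
  all_known_of_lie ⟨Alt.cv27, nl87.spor.imp fun _ _ h => h.cv27, nl87.tits.imp fun _ _ h => h.cv27⟩ SS.cv27

theorem cv87_of (h : All LieAny Cv87) : All Known Cv87 := all_known_of_lie nl87 h

/-- **S4827** from the open rows -/
theorem s4827_of (C : LeftCl) (X : LeftEx) {G : Type u} [Group G] [Finite G] (p q : ℕ) [Fact p.Prime] [Fact q.Prime]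
    (hpq : p ≠ q) (Mp Mq : Ideal Cfsg.AlgInt) (hMp : Cfsg.IsPModular p Mp) (hMq : Cfsg.IsPModular q Mq) :
    (∃ H : Subgroup G, Group.IsNilpotent H ∧ ¬ p ∣ H.index ∧ ¬ q ∣ H.index ∧
      ∀ r : ℕ, r.Prime → r ∣ Nat.card H → (r = p ∨ r = q)) ↔
      ((∀ χ : Cfsg.IrrCharacter G, χ ∈ Cfsg.principalBlock Mq G → ¬ p ∣ Cfsg.charDegree (χ : G → ℂ)) ∧
       (∀ χ : Cfsg.IrrCharacter G, χ ∈ Cfsg.principalBlock Mp G → ¬ q ∣ Cfsg.charDegree (χ : G → ℂ))) :=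
  main4827_of (fw_of C X) cv27 Fa.known MuL.known p q hpq Mp Mq hMp hMq

/-- **S4887** from the open rows -/
theorem s4887_of (C : LeftCl) (X : LeftEx) (h : All LieAny Cv87) {G : Type u} [Group G] [Finite G] [IsSimpleGroup G]
    (hG : ¬ IsMulCommutative G) (p q : ℕ) [Fact p.Prime] [Fact q.Prime] (hpq : p ≠ q) (Mp Mq : Ideal Cfsg.AlgInt)
    (hMp : Cfsg.IsPModular p Mp) (hMq : Cfsg.IsPModular q Mq) :
    ((∀ χ : Cfsg.IrrCharacter G, χ ∈ Cfsg.principalBlock Mp G → ¬ p ∣ Cfsg.charDegree (χ : G → ℂ) →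
        ¬ q ∣ Cfsg.charDegree (χ : G → ℂ)) ∧
      (∀ χ : Cfsg.IrrCharacter G, χ ∈ Cfsg.principalBlock Mq G → ¬ q ∣ Cfsg.charDegree (χ : G → ℂ) →
        ¬ p ∣ Cfsg.charDegree (χ : G → ℂ))) ↔
      ∃ (P : Sylow p G) (Q : Sylow q G), ∀ x ∈ (P : Subgroup G), ∀ y ∈ (Q : Subgroup G), x * y = y * x :=
  main4887_of (fw_of C X) (cv87_of h) hG p q hpq Mp Mq hMp hMq

end Cfsg.Agent.PQ.Asm
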