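import Cfsg.Agent.PQ.Red.C

/-!
# PQ: S4827 and S4887 from the rows
-/

set_option autoImplicit false

namespace Cfsg.Agent.PQ.Red

open Cfsg Subgroup Cfsg.Agent.LV

universe u

variable {p q : ℕ}

/-- nilpotent Hall subgroups and commuting Sylow subgroups -/
theorem hall_iff {G : Type u} [Group G] [Finite G] (hp : p.Prime) (hq : q.Prime) (hpq : p ≠ q) :
    (∃ H : Subgroup G, Group.IsNilpotent H ∧ ¬ p ∣ H.index ∧ ¬ q ∣ H.index ∧
      ∀ r : ℕ, r.Prime → r ∣ Nat.card H → (r = p ∨ r = q)) ↔ Com p q G := by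
  have : Fact p.Prime := ⟨hp⟩
  have : Fact q.Prime := ⟨hq⟩
  constructor
  · rintro ⟨H, hn, h1, h2, -⟩
    obtain ⟨P⟩ : Nonempty (Sylow p H) := inferInstance
    obtain ⟨Q⟩ : Nonempty (Sylow q H) := inferInstance
    have hPn : (P : Subgroup H).Normal := inferInstance
    have hQn : (Q : Subgroup H).Normal := inferInstance
    have hdis : Disjoint (P : Subgroup H) (Q : Subgroup H) :=
      IsPGroup.disjoint_of_ne p q hpq _ _ P.isPGroup' Q.isPGroup'
    refine com_mk hp hq (P.2.map H.subtype) ?_ (Q.2.map H.subtype) ?_ ?_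
    · rw [index_map_subtype, hp.dvd_mul]
      exact not_or.2 ⟨P.not_dvd_index, h1⟩
    · rw [index_map_subtype, hq.dvd_mul]
      exact not_or.2 ⟨Q.not_dvd_index, h2⟩
    · rintro _ ⟨x, hx, rfl⟩ _ ⟨y, hy, rfl⟩
      exact congrArg Subtype.val (commute_of_normal_of_disjoint _ _ hPn hQn hdis x y hx hy).eq
  · rintro ⟨P, Q, h⟩
    let f : ↥(P : Subgroup G) × ↥(Q : Subgroup G) →* G :=
      MonoidHom.noncommCoprod (P : Subgroup G).subtype (Q : Subgroup G).subtype fun a b => h a a.2 b b.2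
    have hP : Group.IsNilpotent (P : Subgroup G) := P.isPGroup'.isNilpotent
    have hQ : Group.IsNilpotent (Q : Subgroup G) := Q.isPGroup'.isNilpotent
    have h1 : (P : Subgroup G) ≤ f.range := fun x hx => ⟨(⟨x, hx⟩, 1), mul_one x⟩
    have h2 : (Q : Subgroup G) ≤ f.range := fun x hx => ⟨(1, ⟨x, hx⟩), one_mul x⟩
    refine ⟨f.range, Group.nilpotent_of_surjective f.rangeRestrict f.rangeRestrict_surjective,
      fun hd => P.not_dvd_index (hd.trans (index_dvd_of_le h1)),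
      fun hd => Q.not_dvd_index (hd.trans (index_dvd_of_le h2)), fun r hr hd => ?_⟩
    have h3 := hd.trans (card_dvd_of_surjective f.rangeRestrict f.rangeRestrict_surjective)
    obtain ⟨a, ha⟩ := IsPGroup.iff_card.1 P.isPGroup'
    obtain ⟨b, hb⟩ := IsPGroup.iff_card.1 Q.isPGroup'
    rw [Nat.card_prod, ha, hb, hr.dvd_mul] at h3
    exact h3.imp (fun h => (Nat.prime_dvd_prime_iff_eq hr hp).1 (hr.dvd_of_dvd_pow h))
      (fun h => (Nat.prime_dvd_prime_iff_eq hr hq).1 (hr.dvd_of_dvd_pow h))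

theorem fw_all (hFw : All Known Fw) (hMu : All Known Mu) (hp : p.Prime) (hpq : p ≠ q) {M : Ideal AlgInt}
    (hM : IsPModular q M) (G : Type u) [Group G] [Finite G] (h : Com p q G) : HZ0 p M G := by
  let e : Shrink.{0} G ≃* G := Shrink.mulEquiv
  have : Finite (Shrink.{0} G) := Finite.of_equiv _ e.symm.toEquiv
  exact hz_surj hM (fw_main hFw hMu hp hpq hM _ _ rfl (com_surj hp hM.1 h e.symm.toMonoidHom e.symm.surjective))
    e.toMonoidHom e.surjective

theorem cv_all (hCv : All Known Cv27) (hFa : All Known Fa) {Mp Mq : Ideal AlgInt} (hpq : p ≠ q)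
    (hMp : IsPModular p Mp) (hMq : IsPModular q Mq) (G : Type u) [Group G] [Finite G] (h1 : HZ0 q Mp G)
    (h2 : HZ0 p Mq G) : Com p q G := by
  let e : Shrink.{0} G ≃* G := Shrink.mulEquiv
  have : Finite (Shrink.{0} G) := Finite.of_equiv _ e.symm.toEquiv
  exact com_surj hMp.1 hMq.1 (cv_main hCv hFa hpq hMp hMq _ _ rfl
    (hz_surj hMp h1 e.symm.toMonoidHom e.symm.surjective) (hz_surj hMq h2 e.symm.toMonoidHom e.symm.surjective))
    e.toMonoidHom e.surjective

/-- **S4827 from the rows.** -/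
theorem main4827_of (hFw : All Known Fw) (hCv : All Known Cv27) (hFa : All Known Fa) (hMu : All Known Mu)
    {G : Type u} [Group G] [Finite G] (p q : ℕ) [Fact p.Prime] [Fact q.Prime] (hpq : p ≠ q)
    (Mp Mq : Ideal Cfsg.AlgInt) (hMp : Cfsg.IsPModular p Mp) (hMq : Cfsg.IsPModular q Mq) :
    (∃ H : Subgroup G, Group.IsNilpotent H ∧ ¬ p ∣ H.index ∧ ¬ q ∣ H.index ∧
      ∀ r : ℕ, r.Prime → r ∣ Nat.card H → (r = p ∨ r = q)) ↔
      ((∀ χ : Cfsg.IrrCharacter G, χ ∈ Cfsg.principalBlock Mq G → ¬ p ∣ Cfsg.charDegree (χ : G → ℂ)) ∧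
       (∀ χ : Cfsg.IrrCharacter G, χ ∈ Cfsg.principalBlock Mp G → ¬ q ∣ Cfsg.charDegree (χ : G → ℂ))) := by
  rw [hall_iff hMp.1 hMq.1 hpq]
  exact ⟨fun h => ⟨fw_all hFw hMu hMp.1 hpq hMq G h, fw_all hFw hMu hMq.1 hpq.symm hMp G h.symm⟩,
    fun h => cv_all hCv hFa hpq hMp hMq G h.2 h.1⟩

theorem fw_simple (hFw : All Known Fw) (hp : p.Prime) (hpq : p ≠ q) {M : Ideal AlgInt} (hM : IsPModular q M)
    (S : Type) [Group S] [Finite S] [hs : IsSimpleGroup S] (hn : ¬ IsMulCommutative S) (h : Com p q S) :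
    HZ0 p M S := by
  by_cases dp : p ∣ Nat.card S
  swap
  · exact hz_of_not_dvd dp
  by_cases dq : q ∣ Nat.card S
  · exact hFw S hs hn S0000.result p q M hM (pair_of_com hn hp hM.1 hpq dp dq h)
  · refine hz_quot hM ⊤ (by rwa [card_top]) (hz_of_comm hp fun a b => ?_)
    have : Subsingleton (S ⧸ (⊤ : Subgroup S)) := QuotientGroup.subsingleton_quotient_top
    exact Subsingleton.elim _ _

theorem hz1_surj {G H : Type*} [Group G] [Group H] {M : Ideal AlgInt} (hM : IsPModular p M) (h : HZ1 p q M G)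
    (f : G →* H) (hf : Function.Surjective f) : HZ1 p q M H := by
  intro χ hχ
  have h2 := h (H684.BlockTools.infl f hf χ) (H684.BlockTools.infl_mem hM f hf hχ)
  rwa [deg_infl] at h2

/-- **S4887 from the rows.** -/
theorem main4887_of (hFw : All Known Fw) (hCv : All Known Cv87)
    {G : Type u} [Group G] [Finite G] [IsSimpleGroup G] (hG : ¬ IsMulCommutative G) (p q : ℕ) [Fact p.Prime]
    [Fact q.Prime] (hpq : p ≠ q) (Mp Mq : Ideal Cfsg.AlgInt) (hMp : Cfsg.IsPModular p Mp)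
    (hMq : Cfsg.IsPModular q Mq) :
    ((∀ χ : Cfsg.IrrCharacter G, χ ∈ Cfsg.principalBlock Mp G → ¬ p ∣ Cfsg.charDegree (χ : G → ℂ) →
        ¬ q ∣ Cfsg.charDegree (χ : G → ℂ)) ∧
      (∀ χ : Cfsg.IrrCharacter G, χ ∈ Cfsg.principalBlock Mq G → ¬ q ∣ Cfsg.charDegree (χ : G → ℂ) →
        ¬ p ∣ Cfsg.charDegree (χ : G → ℂ))) ↔
      ∃ (P : Sylow p G) (Q : Sylow q G), ∀ x ∈ (P : Subgroup G), ∀ y ∈ (Q : Subgroup G), x * y = y * x := by
  have hp := hMp.1
  have hq := hMq.1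
  let e : Shrink.{0} G ≃* G := Shrink.mulEquiv
  have : Finite (Shrink.{0} G) := Finite.of_equiv _ e.symm.toEquiv
  have : Nontrivial (Shrink.{0} G) := e.toEquiv.nontrivial
  have hs : IsSimpleGroup (Shrink.{0} G) :=
    IsSimpleGroup.isSimpleGroup_of_surjective e.symm.toMonoidHom e.symm.surjective
  have hn : ¬ IsMulCommutative (Shrink.{0} G) := fun h => hG ⟨⟨fun a b => e.symm.injective (by
    rw [map_mul, map_mul]; exact h.is_comm.comm _ _)⟩⟩
  constructor
  · rintro ⟨h1, h2⟩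
    change Com p q G
    by_cases dq : q ∣ Nat.card G
    swap
    · exact com_of_not_dvd hp hq dq
    by_cases dp : p ∣ Nat.card G
    swap
    · exact (com_of_not_dvd hq hp dp).symm
    rw [← Nat.card_congr e.toEquiv] at dp dq
    exact com_surj hp hq (hCv _ hs hn S0000.result p q hp hq hpq Mp Mq hMp hMq dp dq
      (hz1_surj hMp h1 e.symm.toMonoidHom e.symm.surjective) (hz1_surj hMq h2 e.symm.toMonoidHom e.symm.surjective))
      e.toMonoidHom e.surjective
  · intro h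
    have h' : Com p q (Shrink.{0} G) := com_surj hp hq h e.symm.toMonoidHom e.symm.surjective
    exact ⟨fun χ hχ _ => hz_surj hMp (fw_simple hFw hq hpq.symm hMp _ hn h'.symm) e.toMonoidHom e.surjective χ hχ,
      fun χ hχ _ => hz_surj hMq (fw_simple hFw hp hpq hMq _ hn h') e.toMonoidHom e.surjective χ hχ⟩

end Cfsg.Agent.PQ.Red
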