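import Cfsg.Agent.PQ.Red.Defs
import Cfsg.Agent.LV.Red.Ab
import Cfsg.Agent.H684.BlockTools
import Cfsg.Agent.H684.CoverCount
import Cfsg.Agent.H684.BlockQuot
import Cfsg.Agent.H426.KB.C1
import Cfsg.Agent.H699.CoprimeIto
import Cfsg.Agent.S4551
import Cfsg.Agent.Blocks.ReynoldsAux
import Cfsg.Agent.S4760

/-!
# PQ: tools for the reductions

* `hz_*`: the degree condition for the principal block of another prime;
* `com_*`: commuting Sylow subgroups;
* `fix_q`: if all degrees in the principal `p`-block are prime to `q`, the `q`-elements fix the principal `p`-block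
  of every normal subgroup.
-/

set_option autoImplicit false

namespace Cfsg.Agent.PQ.Red

open Cfsg Subgroup Cfsg.Agent.LV Cfsg.Agent.Characters.Core Cfsg.Agent.H684.BlockTools

universe u v

variable {p q : ℕ} {M : Ideal AlgInt} {G : Type u} [Group G]

theorem hz_index [Finite G] (hp : p.Prime) (hM : IsPModular q M) (N : Subgroup G)
    [N.Normal] (hi : ¬ p ∣ N.index) (h : HZ0 p M N) : HZ0 p M G := by
  classical
  have : Fact q.Prime := ⟨hM.1⟩
  have := Fintype.ofFinite G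
  have := Fintype.ofFinite N
  intro χ hχ hd
  obtain ⟨θ, hθ⟩ := H921.EB515.exists_under N χ
  have h1 := h θ (Cfsg.Agent.H611.CoverPrincipal.mem_principalBlock_of_over q hM N χ θ hθ hχ)
  obtain ⟨⟨c, hc⟩, h3⟩ := Cfsg.Agent.S0887.result N (χ : G → ℂ) χ.2 (θ : N → ℂ) θ.2 hθ _ _
    (Cfsg.Agent.Blocks.Basic.irr_one_eq_charDegree χ.2) (Cfsg.Agent.Blocks.Basic.irr_one_eq_charDegree θ.2)
  rw [hc] at h3 hd
  rw [Nat.mul_div_cancel_left _ (deg_pos θ)] at h3
  rcases (Nat.Prime.dvd_mul hp).1 hd with h4 | h4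
  · exact h1 h4
  · exact hi (h4.trans h3)

theorem hz_prod [Finite G] (hp : p.Prime) (hM : IsPModular q M) (A B : Subgroup G)
    [A.Normal] [B.Normal] (hcomm : ∀ a ∈ A, ∀ b ∈ B, a * b = b * a) (hgen : ∀ g : G, ∃ a ∈ A, ∃ b ∈ B, a * b = g)
    (hA : HZ0 p M A) (hB : HZ0 p M B) : HZ0 p M G := by
  classical
  have : Fact q.Prime := ⟨hM.1⟩
  have := Fintype.ofFinite G
  have := Fintype.ofFinite A
  have := Fintype.ofFinite B
  intro χ hχ hd
  let f : A × B →* G := MonoidHom.noncommCoprod A.subtype B.subtype (fun a b => hcomm a a.2 b b.2)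
  have hf : ∀ x, f x = x.1 * x.2 := fun x => rfl
  have hsurj : Function.Surjective f := fun g => by
    obtain ⟨a, ha, b, hb, h⟩ := hgen g
    exact ⟨(⟨a, ha⟩, ⟨b, hb⟩), h⟩
  have h1 : IsIrrCharacter (A × B) ((χ : G → ℂ) ∘ f) := isIrr_comp f hsurj χ.2
  obtain ⟨φ, ψ, hφ, hψ, h2⟩ := (Cfsg.Agent.S0188.result _).1 h1
  have hφ1 := Cfsg.Agent.Blocks.Basic.irr_one_eq_charDegree hφ
  have hψ1 := Cfsg.Agent.Blocks.Basic.irr_one_eq_charDegree hψ
  have h3 : ∀ a : A, (χ : G → ℂ) a = ψ 1 * φ a := by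
    intro a
    have h := congrFun h2 (a, 1)
    simp only [Function.comp_apply, hf, OneMemClass.coe_one, mul_one] at h
    rw [h, mul_comm]
  have h4 : ∀ b : B, (χ : G → ℂ) b = φ 1 * ψ b := by
    intro b
    have h := congrFun h2 (1, b)
    simp only [Function.comp_apply, hf, OneMemClass.coe_one, one_mul] at h
    exact h
  have h5 : classInner (fun a : A => (χ : G → ℂ) a) φ ≠ 0 := by
    have e : (fun a : A => (χ : G → ℂ) a) = (ψ 1) • φ := by
      funext a; rw [h3]; rfl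
    rw [e, Cfsg.Agent.Characters.Core.classInner_smul_left, classInner_irr_self hφ, mul_one]
    exact isIrr_apply_one_ne_zero hψ
  have h6 : classInner (fun b : B => (χ : G → ℂ) b) ψ ≠ 0 := by
    have e : (fun b : B => (χ : G → ℂ) b) = (φ 1) • ψ := by
      funext b; rw [h4]; rfl
    rw [e, Cfsg.Agent.Characters.Core.classInner_smul_left, classInner_irr_self hψ, mul_one]
    exact isIrr_apply_one_ne_zero hφ
  have h7 := hA ⟨φ, hφ⟩ (Cfsg.Agent.H611.CoverPrincipal.mem_principalBlock_of_over q hM A χ ⟨φ, hφ⟩ h5 hχ)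
  have h8 := hB ⟨ψ, hψ⟩ (Cfsg.Agent.H611.CoverPrincipal.mem_principalBlock_of_over q hM B χ ⟨ψ, hψ⟩ h6 hχ)
  have h9 : charDegree (χ : G → ℂ) = charDegree φ * charDegree ψ := by
    have h := h3 1
    rw [OneMemClass.coe_one, Cfsg.Agent.Blocks.Basic.irr_one_eq_charDegree χ.2, hφ1, hψ1] at h
    have h' : (charDegree (χ : G → ℂ) : ℂ) = ((charDegree ψ * charDegree φ : ℕ) : ℂ) := by
      rw [h]; push_cast; ring
    rw [Nat.cast_inj.1 h', mul_comm]
  rw [h9] at hd
  rcases (Nat.Prime.dvd_mul hp).1 hd with h | h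
  · exact h7 h
  · exact h8 h

theorem hz_quot [Finite G] (hM : IsPModular q M) (N : Subgroup G) [N.Normal]
    (hN : ¬ q ∣ Nat.card N) (h : HZ0 p M (G ⧸ N)) : HZ0 p M G := by
  have : Fact q.Prime := ⟨hM.1⟩
  intro χ hχ
  obtain ⟨ψ, hψ, hψχ⟩ := (Cfsg.Agent.S4735.bijOn_infl hM N hN).surjOn hχ
  have h3 : charDegree (χ : G → ℂ) = charDegree (ψ : G ⧸ N → ℂ) := by
    apply deg_eq_of
    rw [← hψχ, Cfsg.Agent.S4735.infl_apply]
    rfl
  rw [h3]
  exact h ψ hψ

theorem hz_ad [Finite G] (hM : IsPModular q M) (N : Subgroup G) [N.Normal] (hi : ¬ q ∣ N.index) (Q : Sylow q G)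
    (hsup : N ⊔ centralizer ((Q : Subgroup G) : Set G) = ⊤) (h : HZ0 p M N) : HZ0 p M G := by
  have : Fact q.Prime := ⟨hM.1⟩
  intro χ hχ
  obtain ⟨θ, hθ, h1⟩ := (S4551.result q M hM N hi Q hsup).1 χ hχ
  have h3 : charDegree (χ : G → ℂ) = charDegree (θ : N → ℂ) := deg_eq_of (h1 1)
  rw [h3]
  exact h θ hθ

theorem hz_normal [Finite G] (hM : IsPModular q M) (h : HZ0 p M G) (N : Subgroup G) [N.Normal] : HZ0 p M N := by
  classical
  have : Fact q.Prime := ⟨hM.1⟩
  have := Fintype.ofFinite G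
  have := Fintype.ofFinite N
  intro θ hθ hd
  obtain ⟨χ, hχ, h1⟩ := H684.CoverCount.exists_over hM N θ hθ
  obtain ⟨h2, -⟩ := Cfsg.Agent.S0887.result N (χ : G → ℂ) χ.2 (θ : N → ℂ) θ.2 h1 _ _
    (Cfsg.Agent.Blocks.Basic.irr_one_eq_charDegree χ.2) (Cfsg.Agent.Blocks.Basic.irr_one_eq_charDegree θ.2)
  exact h χ hχ (hd.trans h2)

theorem deg_infl {H : Type v} [Group H] (f : G →* H) (hf : Function.Surjective f) (χ : IrrCharacter H) :
    charDegree ((infl f hf χ : IrrCharacter G) : G → ℂ) = charDegree (χ : H → ℂ) := by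
  unfold charDegree
  show ⌊((χ : H → ℂ) (f 1)).re⌋₊ = _
  rw [map_one]

theorem hz_surj {H : Type v} [Group H] (hM : IsPModular q M) (h : HZ0 p M G) (f : G →* H)
    (hf : Function.Surjective f) : HZ0 p M H := by
  intro χ hχ
  have h2 := h (infl f hf χ) (infl_mem hM f hf hχ)
  rwa [deg_infl] at h2

theorem hz_of_not_dvd [Finite G] (h : ¬ p ∣ Nat.card G) : HZ0 p M G := by
  intro χ _ hd
  obtain ⟨d, h1, h2⟩ := Cfsg.Agent.Blocks.ReynoldsAux.exists_degree_dvd χ.2
  rw [Cfsg.Agent.Blocks.Basic.irr_one_eq_charDegree χ.2] at h1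
  rw [Nat.cast_inj.1 h1] at hd
  exact h (hd.trans h2)

/-! ### commuting Sylow subgroups -/

theorem com_mk [Finite G] (hp : p.Prime) (hq : q.Prime) {A B : Subgroup G} (hA : IsPGroup p A) (hAi : ¬ p ∣ A.index)
    (hB : IsPGroup q B) (hBi : ¬ q ∣ B.index) (h : ∀ x ∈ A, ∀ y ∈ B, x * y = y * x) : Com p q G := by
  have : Fact p.Prime := ⟨hp⟩
  have : Fact q.Prime := ⟨hq⟩
  exact ⟨hA.toSylow hAi, hB.toSylow hBi, h⟩

theorem com_surj [Finite G] {H : Type v} [Group H] (hp : p.Prime) (hq : q.Prime) (h : Com p q G) (f : G →* H)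
    (hf : Function.Surjective f) : Com p q H := by
  have : Fact p.Prime := ⟨hp⟩
  have : Fact q.Prime := ⟨hq⟩
  have : Finite H := Finite.of_surjective f hf
  obtain ⟨P, Q, h⟩ := h
  refine ⟨P.mapSurjective hf, Q.mapSurjective hf, ?_⟩
  rintro _ ⟨a, ha, rfl⟩ _ ⟨b, hb, rfl⟩
  rw [← map_mul, h a ha b hb, map_mul]

theorem com_normal [Finite G] (hp : p.Prime) (hq : q.Prime) (h : Com p q G) (N : Subgroup G) [N.Normal] :
    Com p q N := by
  have : Fact p.Prime := ⟨hp⟩
  have : Fact q.Prime := ⟨hq⟩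
  obtain ⟨P, Q, h⟩ := h
  refine com_mk hp hq (A := (P : Subgroup G).subgroupOf N) (B := (Q : Subgroup G).subgroupOf N)
    (P.2.comap_of_injective _ Subtype.val_injective) (H573.not_dvd_relIndex_normal P N)
    (Q.2.comap_of_injective _ Subtype.val_injective) (H573.not_dvd_relIndex_normal Q N) ?_
  intro x hx y hy
  exact Subtype.ext (h x hx y hy)

/-- every Sylow `p`-subgroup is centralized by a Sylow `q`-subgroup -/
theorem com_given [Finite G] (hp : p.Prime) (h : Com p q G) (P : Sylow p G) :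
    ∃ Q : Sylow q G, ∀ x ∈ (P : Subgroup G), ∀ y ∈ (Q : Subgroup G), x * y = y * x := by
  have : Fact p.Prime := ⟨hp⟩
  obtain ⟨P', Q, h⟩ := h
  obtain ⟨g, hg⟩ := MulAction.exists_smul_eq G P' P
  refine ⟨g • Q, fun x hx y hy => ?_⟩
  rw [← hg, Sylow.coe_subgroup_smul, mem_pointwise_smul_iff_inv_smul_mem] at hx
  rw [Sylow.coe_subgroup_smul, mem_pointwise_smul_iff_inv_smul_mem] at hy
  have h1 := h _ hx _ hy
  rw [← smul_mul', ← smul_mul'] at h1
  exact MulAction.injective _ h1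

theorem com_of_not_dvd [Finite G] (hp : p.Prime) (hq : q.Prime) (h : ¬ q ∣ Nat.card G) : Com p q G := by
  have : Fact p.Prime := ⟨hp⟩
  obtain ⟨P⟩ : Nonempty (Sylow p G) := inferInstance
  refine com_mk hp hq P.2 P.not_dvd_index (B := ⊥) IsPGroup.of_bot (by rwa [index_bot]) ?_
  intro x _ y hy
  rw [mem_bot.1 hy, mul_one, one_mul]

theorem exists_sylow_mem [Finite G] (hp : p.Prime) {x : G} (hx : ∃ k : ℕ, orderOf x = p ^ k) :
    ∃ P : Sylow p G, x ∈ (P : Subgroup G) := by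
  have : Fact p.Prime := ⟨hp⟩
  obtain ⟨k, hk⟩ := hx
  have h1 : IsPGroup p (zpowers x) := IsPGroup.of_card (n := k) (by rw [Nat.card_zpowers, hk])
  obtain ⟨P, hP⟩ := h1.exists_le_sylow
  exact ⟨P, hP (mem_zpowers x)⟩

theorem order_of_mem (hp : p.Prime) {A : Subgroup G} (hA : IsPGroup p A) {x : G} (hx : x ∈ A) :
    ∃ k : ℕ, orderOf x = p ^ k := by
  have : Fact p.Prime := ⟨hp⟩
  obtain ⟨k, hk⟩ := IsPGroup.iff_orderOf.1 hA ⟨x, hx⟩
  exact ⟨k, by rw [← hk, Subgroup.orderOf_mk]⟩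

/-- the class sizes -/
theorem com_class [Finite G] (hp : p.Prime) (hq : q.Prime) (h : Com p q G) (x : G)
    (hx : ∃ k : ℕ, orderOf x = p ^ k) : ¬ q ∣ (centralizer ({x} : Set G)).index := by
  have : Fact q.Prime := ⟨hq⟩
  obtain ⟨P, hP⟩ := exists_sylow_mem hp hx
  obtain ⟨Q, hQ⟩ := com_given hp h P
  have h1 : (Q : Subgroup G) ≤ centralizer ({x} : Set G) := fun y hy =>
    mem_centralizer_singleton_iff.2 (hQ x hP y hy).symm
  exact fun hd => Q.not_dvd_index (hd.trans (index_dvd_of_le h1))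

/-! ### Frattini -/

theorem frat [Finite G] (hp : p.Prime) (P : Sylow p G) (N : Subgroup G) [N.Normal] :
    N ⊔ normalizer (((P : Subgroup G) ⊓ N : Subgroup G) : Set G) = ⊤ := by
  have : Fact p.Prime := ⟨hp⟩
  have hQ : IsPGroup p ((P : Subgroup G).subgroupOf N) := P.2.comap_of_injective _ Subtype.val_injective
  have hi : ¬ p ∣ ((P : Subgroup G).subgroupOf N).index := H573.not_dvd_relIndex_normal P N
  have h1 := Sylow.normalizer_sup_eq_top (hQ.toSylow hi)
  rw [IsPGroup.toSylow_coe, subgroupOf_map_subtype] at h1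
  rw [sup_comm, h1]

theorem sup_cent_normal (N : Subgroup G) [N.Normal] {U : Subgroup G} (h : N ⊔ normalizer (U : Set G) = ⊤) :
    (N ⊔ centralizer (U : Set G)).Normal := by
  have h1 := H684.BlockQuot.map_centralizer_normal N h
  have h2 : N ⊔ centralizer (U : Set G) =
      ((centralizer (U : Set G)).map (QuotientGroup.mk' N)).comap (QuotientGroup.mk' N) := by
    rw [comap_map_eq, QuotientGroup.ker_mk', sup_comm]
  rw [h2]
  infer_instance

/-! ### the stabilizer of the principal block of a normal subgroup -/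

/-- the elements which fix all members of the principal block of `N` -/
def stab (M : Ideal AlgInt) (N : Subgroup G) [N.Normal] : Subgroup G where
  carrier := {g | ∀ θ ∈ principalBlock M N, ∀ n : N, (θ : N → ℂ) (MulAut.conjNormal g n) = (θ : N → ℂ) n}
  one_mem' := fun θ _ n => by rw [map_one]; rfl
  mul_mem' := fun {a b} ha hb θ hθ n => by
    rw [map_mul, MulAut.mul_apply, ha θ hθ, hb θ hθ]
  inv_mem' := fun {a} ha θ hθ n => by
    have h1 := ha θ hθ (MulAut.conjNormal a⁻¹ n)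
    rw [← MulAut.mul_apply, ← map_mul, mul_inv_cancel, map_one] at h1
    exact h1.symm

theorem mem_stab {N : Subgroup G} [N.Normal] {g : G} : g ∈ stab M N ↔
    ∀ θ ∈ principalBlock M N, ∀ n : N, (θ : N → ℂ) (MulAut.conjNormal g n) = (θ : N → ℂ) n := Iff.rfl

theorem stab_normal (hM : IsPModular p M) (N : Subgroup G) [N.Normal] : (stab M N).Normal := by
  refine ⟨fun g hg h θ hθ n => ?_⟩
  let e : MulAut N := MulAut.conjNormal h
  have h1 := hg _ (infl_mem hM e.toMonoidHom e.surjective hθ) (MulAut.conjNormal h⁻¹ n)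
  change (θ : N → ℂ) (e (MulAut.conjNormal g (MulAut.conjNormal h⁻¹ n))) =
    (θ : N → ℂ) (e (MulAut.conjNormal h⁻¹ n)) at h1
  rw [map_mul, map_mul, MulAut.mul_apply, MulAut.mul_apply]
  have h2 : e (MulAut.conjNormal h⁻¹ n) = n := by
    change MulAut.conjNormal h (MulAut.conjNormal h⁻¹ n) = n
    rw [← MulAut.mul_apply, ← map_mul, mul_inv_cancel, map_one]
    rfl
  rw [h2] at h1
  exact h1

theorem le_stab [Finite G] (N : Subgroup G) [N.Normal] : N ≤ stab M N := by
  intro g hg θ _ n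
  have h1 : MulAut.conjNormal g n = (⟨g, hg⟩ : N) * n * (⟨g, hg⟩ : N)⁻¹ := by
    apply Subtype.ext
    rw [MulAut.conjNormal_apply]
    rfl
  rw [h1]
  exact isIrr_isClassFunction θ.2 _ _

theorem reg_mem_stab [Finite G] (hM : IsPModular p M) (P : Sylow p G) (N : Subgroup G) [N.Normal] {b : G}
    (hb : b ∈ centralizer (((P : Subgroup G) ⊓ N : Subgroup G) : Set G)) (h3 : ¬ p ∣ orderOf b) :
    b ∈ stab M N := by
  have : Fact p.Prime := ⟨hM.1⟩
  intro θ hθ n
  have hW : N ≤ N ⊔ zpowers b := le_sup_left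
  have hQ : IsPGroup p ((P : Subgroup G).subgroupOf N) := P.2.comap_of_injective _ Subtype.val_injective
  have hi : ¬ p ∣ ((P : Subgroup G).subgroupOf N).index := H573.not_dvd_relIndex_normal P N
  let e := subgroupOfEquivOfLe hW
  refine H426.KB.fixed_of_centralizer (N.subgroupOf (N ⊔ zpowers b)) hM (fun h => h3 (h.trans ?_))
    ((hQ.toSylow hi).comapOfInjective e.toMonoidHom e.injective
      (by rw [MonoidHom.range_eq_top.2 e.surjective]; exact le_top))
    (infl e.toMonoidHom e.surjective θ) (infl_mem hM _ e.surjective hθ) ⟨b, mem_sup_right (mem_zpowers b)⟩ ?_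
    ⟨⟨n, hW n.2⟩, n.2⟩
  · change N.relIndex _ ∣ _
    rw [sup_comm, relIndex_sup_right, ← Nat.card_zpowers]
    exact relIndex_dvd_card _ _
  · rintro _ ⟨y, hy, rfl⟩
    have h1 : e y ∈ (P : Subgroup G).subgroupOf N := hy
    exact Subtype.ext (hb _ ⟨h1, (e y).2⟩)

/-- the characters of the quotient by the stabilizer lie in the principal block -/
theorem infl_stab_mem [Finite G] (hM : IsPModular p M) (N : Subgroup G) [N.Normal] [(stab M N).Normal]
    (ψ : IrrCharacter (G ⧸ stab M N)) :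
    infl (QuotientGroup.mk' (stab M N)) (QuotientGroup.mk'_surjective _) ψ ∈ principalBlock M G := by
  have hp : Fact p.Prime := ⟨hM.1⟩
  obtain ⟨P⟩ : Nonempty (Sylow p G) := inferInstance
  refine H684.BlockQuot.mem_of_quotient (stab M N) hM (U := (P : Subgroup G) ⊓ N) (P.2.to_le inf_le_left)
    (inf_le_right.trans (le_stab N)) ?_ ?_ ψ
  · rw [eq_top_iff, ← frat hp.out P N]
    exact sup_le_sup_right (le_stab N) _
  · rintro ⟨_, c, hc, rfl⟩
    obtain ⟨k, m, hm, e⟩ := Nat.exists_eq_pow_mul_and_not_dvd (orderOf_pos c).ne' p hp.out.ne_one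
    refine ⟨k, Subtype.ext ?_⟩
    change (QuotientGroup.mk' (stab M N) c) ^ p ^ k = 1
    rw [← map_pow, QuotientGroup.mk'_apply, QuotientGroup.eq_one_iff]
    refine reg_mem_stab hM P N (pow_mem hc _) fun h => hm (h.trans (orderOf_dvd_of_pow_eq_one ?_))
    rw [← pow_mul, ← e, pow_orderOf_eq_one]

/-- **the `q`-elements fix the principal `p`-block of a normal subgroup** -/
theorem fix_q [Finite G] (hM : IsPModular p M) (hq : q.Prime) (h : HZ0 q M G) (N : Subgroup G) [hN : N.Normal]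
    {x : G} (hx : ∃ k : ℕ, orderOf x = q ^ k) : x ∈ stab M N := by
  classical
  have : Fact p.Prime := ⟨hM.1⟩
  have : Fact q.Prime := ⟨hq⟩
  have := Fintype.ofFinite G
  have := Fintype.ofFinite N
  have hTn := stab_normal hM N
  obtain ⟨Q, hQ⟩ := exists_sylow_mem hq hx
  let f := QuotientGroup.mk' (stab M N)
  have hf : Function.Surjective f := QuotientGroup.mk'_surjective _
  have hn : ((Q.mapSurjective hf : Sylow q (G ⧸ stab M N)) : Subgroup (G ⧸ stab M N)).Normal := by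
    refine ((S4760.result q (Q.mapSurjective hf)).2 fun ψ => ?_).1
    have h1 := h _ (infl_stab_mem hM N ψ)
    rwa [deg_infl] at h1
  intro θ hθ
  let T : Subgroup G :=
    { carrier := {g | ∀ n : N, (θ : N → ℂ) (MulAut.conjNormal g n) = (θ : N → ℂ) n}
      one_mem' := fun n => by rw [map_one]; rfl
      mul_mem' := fun {a b} ha hb n => by rw [map_mul, MulAut.mul_apply, ha, hb]
      inv_mem' := fun {a} ha n => by
        have h1 := ha (MulAut.conjNormal a⁻¹ n)
        rw [← MulAut.mul_apply, ← map_mul, mul_inv_cancel, map_one] at h1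
        exact h1.symm }
  obtain ⟨χ, hχ, h1⟩ := H684.CoverCount.exists_over hM N θ hθ
  have h2 : T.index ∣ charDegree (χ : G → ℂ) :=
    H699.CoprimeIto.inertia_index_dvd N θ θ.2 T (fun g => Iff.rfl) χ χ.2 h1
  have h3 : ¬ q ∣ T.index := fun hd => h χ hχ (hd.trans h2)
  obtain ⟨Q', hQ'⟩ := H573.exists_sylow_le_of_index T h3
  have hu : Unique (Sylow q (G ⧸ stab M N)) := Sylow.unique_of_normal _ hn
  have h4 : Q.mapSurjective hf = Q'.mapSurjective hf := Subsingleton.elim _ _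
  have h5 : f x ∈ ((Q'.mapSurjective hf : Sylow q (G ⧸ stab M N)) : Subgroup (G ⧸ stab M N)) := by
    rw [← h4]; exact ⟨x, hQ, rfl⟩
  obtain ⟨y, hy, hyx⟩ := h5
  have h6 : y⁻¹ * x ∈ stab M N := QuotientGroup.eq.1 hyx
  have h7 : x = y * (y⁻¹ * x) := by group
  have h8 : y * (y⁻¹ * x) ∈ T := T.mul_mem (hQ' hy) (h6 θ hθ)
  rw [← h7] at h8
  exact h8

open scoped ComplexConjugate in
/-- an automorphism which fixes the principal `p`-block fixes the classes of `p`-elements -/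
theorem isConj_of_fix [Finite G] (hM : IsPModular p M) (α : MulAut G)
    (h : ∀ χ ∈ principalBlock M G, ∀ g, (χ : G → ℂ) (α g) = (χ : G → ℂ) g) {g : G}
    (hg : ∃ j : ℕ, orderOf g = p ^ j) : IsConj (α g) g := by
  classical
  have : Fact p.Prime := ⟨hM.1⟩
  by_contra hc
  have hg' : ∃ j : ℕ, orderOf (α g) = p ^ j := by
    obtain ⟨j, hj⟩ := hg
    exact ⟨j, by rw [← hj]; exact MulEquiv.orderOf_eq α g⟩
  have h1 := orth hM hg' hg hc
  have hfin := finite_principal (M := M) (G := G)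
  let _ : Fintype (principalBlock M G) := Fintype.ofFinite _
  rw [finsum_mem_eq_finite_toFinset_sum _ (Set.toFinite _)] at h1
  have h2 : ∀ χ ∈ (Set.toFinite (principalBlock M G)).toFinset,
      (χ : G → ℂ) (α g) * conj ((χ : G → ℂ) g) = ((‖(χ : G → ℂ) g‖ ^ 2 : ℝ) : ℂ) := by
    intro χ hχ
    rw [h χ ((Set.Finite.mem_toFinset _).1 hχ) g, Complex.mul_conj, Complex.normSq_eq_norm_sq]
  rw [Finset.sum_congr rfl h2, ← Complex.ofReal_sum, Complex.ofReal_eq_zero] at h1
  have h3 := (Finset.sum_eq_zero_iff_of_nonneg (fun χ _ => by positivity)).1 h1 (triv G)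
    ((Set.Finite.mem_toFinset _).2 (triv_mem hM))
  have h4 : ((triv G : IrrCharacter G) : G → ℂ) g = 1 := rfl
  rw [h4] at h3
  norm_num at h3

end Cfsg.Agent.PQ.Red
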