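import Cfsg.Agent.PQ.Red.A
import Cfsg.Agent.H364.ML
import Cfsg.Agent.H693.PB.Red
import Cfsg.Agent.H716.UniCent
import Cfsg.Agent.S0000
import Cfsg.Agent.S4599
import Cfsg.Agent.S5758

/-!
# PQ: the forward reduction

* `pair_of_com`: the standing hypotheses for a simple group with commuting Sylow subgroups;
* `fw_main`: commuting Sylow subgroups give cross coprime degrees in all finite groups, from the rows `Fw` and `Mu`.
-/

set_option autoImplicit false

namespace Cfsg.Agent.PQ.Red

open Cfsg Subgroup Cfsg.Agent.LV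
open scoped commutatorElement

universe u v

variable {p q : ℕ} {M : Ideal AlgInt} {G : Type u} [Group G]

theorem pair_of_com [Finite G] [IsSimpleGroup G] (hn : ¬ IsMulCommutative G) (hp : p.Prime) (hq : q.Prime)
    (hpq : p ≠ q) (dp : p ∣ Nat.card G) (dq : q ∣ Nat.card G) (h : Com p q G) : Pair p q G := by
  have : Fact p.Prime := ⟨hp⟩
  have : Fact q.Prime := ⟨hq⟩
  obtain ⟨p2, q2, H, hH, hc⟩ := S4599.result hn p q hpq dp dq (com_class hp hq h) (com_class hq hp h.symm)
  have key : ∀ r : ℕ, r.Prime → ¬ r ∣ H.index → AbS r G := by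
    intro r hr hi
    have : Fact r.Prime := ⟨hr⟩
    obtain ⟨P, hP⟩ := H573.exists_sylow_le_of_index H hi
    exact abS_of_one P fun a ha b hb => congrArg Subtype.val (hc.is_comm.comm ⟨a, hP ha⟩ ⟨b, hP hb⟩)
  refine ⟨hp, hq, hpq, p2, q2, dp, dq, h, key p hp (hH.2 p hp (by simp)), key q hq (hH.2 q hq (by simp)), ?_⟩
  intro r hr hL
  constructor
  · rintro rfl
    obtain ⟨x, hx, hd⟩ := H716.UniCent.exists_uni_of_lie hq hp hL hpq.symm dq
    exact com_class hp hq h x hx hd
  · rintro rfl
    obtain ⟨x, hx, hd⟩ := H716.UniCent.exists_uni_of_lie hp hq hL hpq dp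
    exact com_class hq hp h.symm x hx hd

/-- an element which maps a nontrivial element of a simple factor into the factor normalizes the factor -/
theorem norm_of_elem [Finite G] (N : Subgroup G) [hNn : N.Normal] {S : Subgroup G} (hSN : S ≤ N)
    (hs : IsSimpleGroup S) (hNS : ∀ n ∈ N, ∀ g ∈ S, n * g * n⁻¹ ∈ S) {x y : G} (hy : y ∈ S) (hy1 : y ≠ 1)
    (hxy : x * y * x⁻¹ ∈ S) : x ∈ normalizer (S : Set G) := by
  let T : Subgroup G := S.map (MulAut.conj x).toMonoidHom
  have hT : ∀ g, g ∈ T ↔ x⁻¹ * g * x ∈ S := by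
    intro g
    constructor
    · rintro ⟨y, hy, rfl⟩
      have : x⁻¹ * (x * y * x⁻¹) * x = y := by group
      show x⁻¹ * (x * y * x⁻¹) * x ∈ S
      rwa [this]
    · intro hg
      refine ⟨_, hg, ?_⟩
      show x * (x⁻¹ * g * x) * x⁻¹ = g
      group
  have hTn : ∀ n ∈ N, ∀ g ∈ T, n * g * n⁻¹ ∈ T := by
    intro n hn g hg
    rw [hT] at hg ⊢
    have h1 : x⁻¹ * n * x ∈ N := by
      have := hNn.conj_mem n hn x⁻¹
      rwa [inv_inv] at this
    have h2 := hNS _ h1 _ hg
    have h3 : x⁻¹ * n * x * (x⁻¹ * g * x) * (x⁻¹ * n * x)⁻¹ = x⁻¹ * (n * g * n⁻¹) * x := by group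
    rwa [h3] at h2
  have hD : ((S ⊓ T).subgroupOf S).Normal := by
    refine ⟨fun a ha b => ?_⟩
    rw [Subgroup.mem_subgroupOf] at ha ⊢
    refine ⟨S.mul_mem (S.mul_mem b.2 ha.1) (S.inv_mem b.2), hTn _ (hSN b.2) _ ha.2⟩
  rcases hs.eq_bot_or_eq_top_of_normal _ hD with h1 | h1
  · exfalso
    have h3 : (⟨x * y * x⁻¹, hxy⟩ : S) ∈ (S ⊓ T).subgroupOf S := ⟨hxy, y, hy, rfl⟩
    rw [h1, mem_bot] at h3
    have h4 : x * y * x⁻¹ = 1 := congrArg Subtype.val h3
    apply hy1
    have : y = x⁻¹ * (x * y * x⁻¹) * x := by group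
    rw [this, h4]; group
  · rw [Subgroup.subgroupOf_eq_top] at h1
    have h2 : S ≤ T := h1.trans inf_le_right
    have h3 : Nat.card T = Nat.card S :=
      (Nat.card_congr (S.equivMapOfInjective _ (MulAut.conj x).injective).toEquiv).symm
    have h4 : S = T := Subgroup.eq_of_le_of_card_ge h2 h3.le
    rw [mem_normalizer_iff]
    intro g
    have h5 := hT (x * g * x⁻¹)
    have h6 : x⁻¹ * (x * g * x⁻¹) * x = g := by group
    rw [h6, ← h4] at h5
    exact h5.symm

/-- a Sylow subgroup meets a factor of a normal subgroup in a Sylow subgroup -/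
theorem not_dvd_factor [Finite G] (hq : q.Prime) (Q : Sylow q G) (N : Subgroup G) [N.Normal] {S : Subgroup G}
    (hSN : S ≤ N) (hNS : ∀ n ∈ N, ∀ g ∈ S, n * g * n⁻¹ ∈ S) : ¬ q ∣ (Q : Subgroup G).relIndex S := by
  have : Fact q.Prime := ⟨hq⟩
  have hQ : IsPGroup q ((Q : Subgroup G).subgroupOf N) := Q.2.comap_of_injective _ Subtype.val_injective
  have hi : ¬ q ∣ ((Q : Subgroup G).subgroupOf N).index := H573.not_dvd_relIndex_normal Q N
  have hnor : (S.subgroupOf N).Normal := ⟨fun a ha b => hNS _ b.2 _ ha⟩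
  have h1 := H573.not_dvd_relIndex_normal (hQ.toSylow hi) (S.subgroupOf N)
  rwa [IsPGroup.toSylow_coe, relIndex_subgroupOf hSN] at h1

theorem exists_mem_factor [Finite G] (hq : q.Prime) (Q : Sylow q G) (N : Subgroup G) [N.Normal] {S : Subgroup G}
    (hSN : S ≤ N) (hNS : ∀ n ∈ N, ∀ g ∈ S, n * g * n⁻¹ ∈ S) (hd : q ∣ Nat.card S) :
    ∃ y ∈ S, y ∈ (Q : Subgroup G) ∧ y ≠ 1 := by
  by_contra hc
  push Not at hc
  apply not_dvd_factor hq Q N hSN hNS
  have h1 : (Q : Subgroup G).subgroupOf S = ⊥ := by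
    rw [eq_bot_iff]
    intro y hy
    exact Subtype.ext (hc y y.2 hy)
  rwa [relIndex, h1, index_bot]

/-- a central Sylow subgroup -/
theorem top_of_central [Finite G] (hq : q.Prime) (hO : ∀ N : Subgroup G, N.Normal → ¬ q ∣ Nat.card N → N = ⊥)
    {Z A : Subgroup G} [hA : A.Normal] (hZA : Z ≤ A) (hC : Z ≤ center G) (hZ : IsPGroup q Z)
    (hi : ¬ q ∣ Z.relIndex A) : A ≤ Z := by
  have : Fact q.Prime := ⟨hq⟩
  have hZn : Z.Normal := ⟨fun n hn g => by rw [mem_center_iff.1 (hC hn) g, mul_inv_cancel_right]; exact hn⟩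
  have hO' : pPrimeCore q G = ⊥ := hO _ (Lib.Cores.pPrimeCore_normal q)
    ((Nat.Prime.coprime_iff_not_dvd hq).1 (Lib.Cores.pPrimeCore_coprime q).symm)
  have hOA := core_sub hO' A hA
  have hZ' : IsPGroup q (Z.subgroupOf A) := hZ.comap_of_injective _ Subtype.val_injective
  obtain ⟨k, hk⟩ := IsPGroup.iff_card.1 hZ'
  have hcop : (Nat.card (Z.subgroupOf A)).Coprime (Z.subgroupOf A).index := by
    rw [hk]
    exact Nat.Coprime.pow_left k ((Nat.Prime.coprime_iff_not_dvd hq).2 hi)
  obtain ⟨H, hH⟩ := Subgroup.exists_right_complement'_of_coprime hcop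
  have hHn : H.Normal := by
    constructor
    intro y hy g
    obtain ⟨⟨n, h⟩, hnh⟩ := hH.2 g
    have h1 : (n : A) * h = g := hnh
    rw [← h1]
    have h2 : (n : A) * h * y * ((n : A) * h)⁻¹ = (n : A) * (h * y * (h : A)⁻¹) * (n : A)⁻¹ := by group
    have h3 : ∀ w : A, (n : A) * w * (n : A)⁻¹ = w := by
      intro w
      apply Subtype.ext
      have h4 : (w : G) * ((n : A) : G) = ((n : A) : G) * w := mem_center_iff.1 (hC n.2) (w : G)
      change ((n : A) : G) * w * ((n : A) : G)⁻¹ = w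
      rw [← h4, mul_inv_cancel_right]
    rw [h2, h3]
    exact H.mul_mem (H.mul_mem h.2 hy) (H.inv_mem h.2)
  have h4 : H ≤ pPrimeCore q A := by
    refine Lib.Cores.le_pPrimeCore hHn ?_
    rw [← hH.symm.index_eq_card]
    exact ((Nat.Prime.coprime_iff_not_dvd hq).2 hi).symm
  rw [hOA, le_bot_iff] at h4
  have h5 := hH.symm.index_eq_card
  rw [h4, card_bot, index_eq_one, subgroupOf_eq_top] at h5
  exact h5

/-- a perfect group with a simple normal subgroup -/
theorem sup_cent_top [Finite G] (hG : commutator G = ⊤) (S : Subgroup G) [hS : S.Normal] [IsSimpleGroup S] (y : G) :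
    ∃ s ∈ S, s⁻¹ * y ∈ centralizer (S : Set G) := by
  have hout : Group.IsSolvable (Cfsg.Out S) := S5758.result
  let f : G →* Cfsg.Out S := (QuotientGroup.mk' (Cfsg.Inn S)).comp (MulAut.conjNormal (H := S))
  have h1 : ∀ n : ℕ, (⊤ : Subgroup G).map f ≤ derivedSeries (Cfsg.Out S) n := by
    intro n
    have h2 : derivedSeries G n = ⊤ := by
      induction n with
      | zero => rfl
      | succ n ih => rw [derivedSeries_succ, ih]; exact hG
    rw [← h2]
    exact map_derivedSeries_le_derivedSeries f n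
  obtain ⟨n, hn⟩ := hout
  have h2 : f y = 1 := by
    have h3 := h1 n ⟨y, mem_top y, rfl⟩
    rwa [hn, mem_bot] at h3
  have h3 : (MulAut.conjNormal (H := S) y) ∈ Cfsg.Inn S := (QuotientGroup.eq_one_iff _).1 h2
  obtain ⟨s, hs⟩ := h3
  refine ⟨s, s.2, ?_⟩
  rw [Subgroup.mem_centralizer_iff]
  intro t ht
  have h5 := congrArg (fun φ : MulAut S => ((φ ⟨t, ht⟩ : S) : G)) hs
  simp only [MulAut.conj_apply, MulAut.conjNormal_apply, Subgroup.coe_mul, Subgroup.coe_inv] at h5
  have h6 : (s : G) * t = y * t * y⁻¹ * s := by rw [← h5]; group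
  calc t * ((s : G)⁻¹ * y) = (s : G)⁻¹ * ((s : G) * t) * (s : G)⁻¹ * y := by group
    _ = (s : G)⁻¹ * (y * t * y⁻¹ * s) * (s : G)⁻¹ * y := by rw [h6]
    _ = (s : G)⁻¹ * y * t := by group

theorem comm_eq_of_simple (S : Subgroup G) [hs : IsSimpleGroup S] (hn : ¬ ∀ a b : S, a * b = b * a) : ⁅S, S⁆ = S := by
  have h1 : commutator S = ⊤ := by
    rcases hs.eq_bot_or_eq_top_of_normal (commutator S) inferInstance with h | h
    · exfalso
      apply hn
      intro a b
      have h2 : ⁅a, b⁆ ∈ commutator S := commutator_mem_commutator (mem_top a) (mem_top b)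
      rw [h, mem_bot] at h2
      exact commutatorElement_eq_one_iff_mul_comm.1 h2
    · exact h
  have h2 := congrArg (Subgroup.map S.subtype) h1
  rwa [_root_.commutator_def, map_commutator, ← MonoidHom.range_eq_map, range_subtype] at h2

/-- **the forward reduction** -/
theorem fw_main (hFw : All Known Fw) (hMu : All Known Mu) (hp : p.Prime) (hpq : p ≠ q) (hM : IsPModular q M) :
    ∀ (n : ℕ) (G : Type) [Group G] [Finite G], Nat.card G = n → Com p q G → HZ0 p M G := by
  have hq : q.Prime := hM.1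
  have : Fact p.Prime := ⟨hp⟩
  have : Fact q.Prime := ⟨hq⟩
  intro n
  induction n using Nat.strong_induction_on with
  | _ n ih =>
  intro G _ _ hn hcom
  have ihN : ∀ N : Subgroup G, N.Normal → N ≠ ⊤ → HZ0 p M N := fun N _ hN =>
    ih _ (hn ▸ card_lt_of_ne_top hN) N rfl (com_normal hp hq hcom N)
  obtain ⟨P, Q, hPQ⟩ := id hcom
  by_cases h1 : ∃ N : Subgroup G, N.Normal ∧ (P : Subgroup G) ≤ N ∧ N ≠ ⊤
  · obtain ⟨N, hN, h1, h2⟩ := h1
    exact hz_index hp hM N (fun hd => P.not_dvd_index (hd.trans (index_dvd_of_le h1))) (ihN N hN h2)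
  push Not at h1
  by_cases h2 : ∃ N : Subgroup G, N.Normal ∧ (Q : Subgroup G) ≤ N ∧ N ≠ ⊤
  · obtain ⟨N, hN, h2, h3⟩ := h2
    have h4 := frat hq Q N
    rw [inf_eq_left.2 h2] at h4
    refine hz_ad hM N (fun hd => Q.not_dvd_index (hd.trans (index_dvd_of_le h2))) Q
      (h1 _ (sup_cent_normal N h4) (le_sup_of_le_right fun x hx => ?_)) (ihN N hN h3)
    exact mem_centralizer_iff.2 fun y hy => (hPQ x hx y hy).symm
  push Not at h2
  by_cases h3 : ∃ N : Subgroup G, N.Normal ∧ ¬ q ∣ Nat.card N ∧ N ≠ ⊥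
  · obtain ⟨N, hN, h3, h4⟩ := h3
    exact hz_quot hM N h3 (ih _ (hn ▸ card_quot_lt h4) (G ⧸ N) rfl
      (com_surj hp hq hcom _ (QuotientGroup.mk'_surjective N)))
  push Not at h3
  by_cases hab : ∀ a b : G, a * b = b * a
  · exact hz_of_comm hp hab
  have hO' : pPrimeCore q G = ⊥ := h3 _ (Lib.Cores.pPrimeCore_normal q)
    ((Nat.Prime.coprime_iff_not_dvd hq).1 (Lib.Cores.pPrimeCore_coprime q).symm)
  have hZQ : center G ≤ (Q : Subgroup G) := fun z hz => center_le hO' Q hz
  have hZ : IsPGroup q (center G) := Q.2.to_le hZQ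
  have hZt : center G ≠ ⊤ := fun h => hab fun a b => mem_center_iff.1 (h ▸ mem_top b : b ∈ center G) a
  -- `G` is perfect
  have hperf : commutator G = ⊤ := by
    have key : ∀ A : Subgroup G, (commutator G ⊔ A).Normal := fun A =>
      Subgroup.Normal.of_commutator_le G le_sup_left
    have k2 : ∀ A : Subgroup G, commutator G ⊔ A = ⊤ → (commutator G).index ∣ Nat.card A := by
      intro A hA
      rw [← relIndex_top_right, ← hA, sup_comm, relIndex_sup_right]
      exact relIndex_dvd_card _ _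
    obtain ⟨a, ha⟩ := IsPGroup.iff_card.1 P.2
    obtain ⟨b, hb⟩ := IsPGroup.iff_card.1 Q.2
    have h4 := k2 _ (h1 _ (key P) le_sup_right)
    have h5 := k2 _ (h2 _ (key Q) le_sup_right)
    erw [ha] at h4
    erw [hb] at h5
    have h6 := Nat.dvd_gcd h4 h5
    rw [(Nat.Coprime.pow a b ((Nat.coprime_primes hp hq).2 hpq)).gcd_eq_one, Nat.dvd_one, index_eq_one] at h6
    exact h6
  -- the central quotient
  let f := QuotientGroup.mk' (center G)
  have hf : Function.Surjective f := QuotientGroup.mk'_surjective _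
  have hfk : f.ker = center G := QuotientGroup.ker_mk' _
  have hcom' : Com p q (G ⧸ center G) := com_surj hp hq hcom f hf
  have hperf' : commutator (G ⧸ center G) = ⊤ := by
    rw [_root_.commutator_def, ← map_top_of_surjective f hf, ← map_commutator, ← _root_.commutator_def, hperf]
  have h1' : ∀ N : Subgroup (G ⧸ center G), N.Normal → (∀ P' : Sylow p (G ⧸ center G), (P' : Subgroup _) ≤ N) →
      N = ⊤ := by
    intro N hN h
    have h4 := h1 (N.comap f) inferInstance fun x hx => h (P.mapSurjective hf) ⟨x, hx, rfl⟩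
    rw [← map_comap_eq_self_of_surjective hf N, h4, map_top_of_surjective f hf]
  have htop : (⊤ : Subgroup (G ⧸ center G)) ≠ ⊥ := by
    intro h
    apply hZt
    refine hfk.symm.trans ?_
    rw [← MonoidHom.comap_bot, ← h, comap_top]
  obtain ⟨N, hNn, -, hN0, hmin⟩ := H364.exists_minimal_normal_le (⊤ : Subgroup (G ⧸ center G)) inferInstance htop
  have hZA : center G ≤ N.comap f := hfk.ge.trans (ker_le_comap f N)
  have hAZ : ¬ N.comap f ≤ center G := by
    intro h
    apply hN0
    rw [← map_comap_eq_self_of_surjective hf N, Subgroup.map_eq_bot_iff, hfk]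
    exact h
  have hqN : q ∣ Nat.card N := by
    by_contra hc
    refine hAZ (top_of_central hq h3 hZA le_rfl hZ ?_)
    have h4 : (center G).relIndex (N.comap f) = Nat.card N := by
      have h5 := relIndex_ker (N.comap f) f
      rwa [map_comap_eq_self_of_surjective hf, hfk] at h5
    rwa [h4]
  rcases H364.minimal_normal_cases2 N hN0 hmin with ⟨r, hr, hrN⟩ |
    ⟨m, S, hm, hSN, hS, hSna, hSt, -, hScomm, hSsup⟩
  · exfalso
    have : Fact r.Prime := ⟨hr⟩
    obtain ⟨j, hj⟩ := IsPGroup.iff_card.1 hrN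
    obtain rfl : q = r := (Nat.prime_dvd_prime_iff_eq hq hr).1 (hq.dvd_of_dvd_pow (hj ▸ hqN))
    have h4 : IsPGroup q (N.comap f) := hrN.comap_of_ker_isPGroup f (by rw [hfk]; exact hZ)
    have h5 : N.comap f ≤ (Q : Subgroup G) := by
      obtain ⟨Q', hQ'⟩ := h4.exists_le_sylow
      obtain ⟨g, hg⟩ := MulAction.exists_smul_eq G Q' Q
      intro x hx
      rw [← hg, Sylow.coe_subgroup_smul, mem_pointwise_smul_iff_inv_smul_mem]
      apply hQ'
      have := (inferInstance : (N.comap f).Normal).conj_mem x hx g⁻¹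
      simpa [MulAut.smul_def] using this
    have h6 := h1 (centralizer ((N.comap f : Subgroup G) : Set G)) inferInstance fun x hx =>
      mem_centralizer_iff.2 fun y hy => (hPQ x hx y (h5 hy)).symm
    refine hAZ fun x hx => mem_center_iff.2 fun g => ?_
    exact (mem_centralizer_iff.1 (h6 ▸ mem_top g : g ∈ centralizer ((N.comap f : Subgroup G) : Set G)) x hx).symm
  · let i : Fin m := ⟨0, hm⟩
    have hNS : ∀ n ∈ N, ∀ g ∈ S i, n * g * n⁻¹ ∈ S i := fun n hn g hg =>
      H693.PB.normalizes_factor S hScomm i (by rw [hSsup]; exact hn) hg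
    have hSn : (S i).Normal := by
      rw [← normalizer_eq_top_iff, eq_top_iff]
      have h4 := h1' (normalizer ((S i : Subgroup _) : Set (G ⧸ center G))).normalCore inferInstance (by
        intro P'
        have key : ∀ P'' : Sylow p (G ⧸ center G),
            (P'' : Subgroup _) ≤ normalizer ((S i : Subgroup _) : Set (G ⧸ center G)) := by
          intro P'' x hx
          obtain ⟨Q', hQ'⟩ := com_given hp hcom' P''
          obtain ⟨y, hy, hyQ, hy1⟩ := exists_mem_factor hq Q' N (hSN i) hNS (hSt q hq hqN i)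
          refine norm_of_elem N (hSN i) (hS i) hNS hy hy1 ?_
          rw [hQ' x hx y hyQ, mul_inv_cancel_right]
          exact hy
        intro x hx g
        refine key (g • P') ?_
        exact Subgroup.smul_mem_pointwise_smul _ (MulAut.conj g) _ hx)
      rw [← h4]
      exact normalCore_le _
    have hs := hS i
    have hSe : S i = N := by
      rcases hmin _ hSn (hSN i) with h | h
      · exact ((Subgroup.nontrivial_iff_ne_bot _).1 hs.toNontrivial h).elim
      · exact h
    -- the product decomposition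
    let A : Subgroup G := ⁅N.comap f, N.comap f⁆
    let B : Subgroup G := (centralizer ((N : Subgroup _) : Set (G ⧸ center G))).comap f
    have hAB : ⁅A, B⁆ = ⊥ := by
      have k1 : ⁅N.comap f, B⁆ ≤ center G := by
        rw [commutator_le]
        intro a ha b hb
        apply hfk.le
        rw [MonoidHom.mem_ker, map_commutatorElement, commutatorElement_eq_one_iff_mul_comm]
        exact mem_centralizer_iff.1 hb _ ha
      have k2 : ∀ X Y : Subgroup G, X ≤ center G → ⁅X, Y⁆ = ⊥ := by
        intro X Y hX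
        rw [commutator_eq_bot_iff_le_centralizer]
        exact hX.trans (center_le_centralizer _)
      refine commutator_commutator_eq_bot_of_rotate (k2 _ _ k1) (k2 _ _ ?_)
      rw [commutator_comm]
      exact k1
    have hAm : A.map f = N := by
      rw [map_commutator, map_comap_eq_self_of_surjective hf, ← hSe]
      exact comm_eq_of_simple (S i) (hSna i)
    have hgen : ∀ g : G, ∃ a ∈ A, ∃ b ∈ B, a * b = g := by
      intro g
      obtain ⟨s, hs1, hs2⟩ := sup_cent_top hperf' (S i) (f g)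
      rw [hSe] at hs1 hs2
      rw [← hAm] at hs1
      obtain ⟨a, ha, rfl⟩ := hs1
      refine ⟨a, ha, a⁻¹ * g, ?_, by group⟩
      change f (a⁻¹ * g) ∈ centralizer _
      rwa [map_mul, map_inv]
    have hB : B ≠ ⊤ := by
      intro h
      apply hSna i
      intro a b
      obtain ⟨g, hg⟩ := hf (b : G ⧸ center G)
      have h4 : f g ∈ centralizer ((N : Subgroup _) : Set (G ⧸ center G)) := (h ▸ mem_top g : g ∈ B)
      rw [hg] at h4
      exact Subtype.ext (mem_centralizer_iff.1 h4 _ (hSN i a.2))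
    by_cases hA : A = ⊤
    swap
    · refine hz_prod hp hM A B (fun a ha b hb => ?_) hgen (ihN A inferInstance hA) (ihN B inferInstance hB)
      exact (mem_centralizer_iff.1 (commutator_eq_bot_iff_le_centralizer.1 hAB ha) b hb).symm
    have hNt : N = ⊤ := by rw [← hAm, hA, map_top_of_surjective f hf]
    have hsim : IsSimpleGroup (G ⧸ center G) := by
      rw [hSe, hNt] at hs
      have : Nontrivial (G ⧸ center G) := by
        rw [← Subgroup.nontrivial_iff (G := G ⧸ center G)]
        exact ⟨⊤, ⊥, htop⟩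
      exact IsSimpleGroup.isSimpleGroup_of_surjective (⊤ : Subgroup (G ⧸ center G)).subtype
        fun x => ⟨⟨x, mem_top x⟩, rfl⟩
    have hna : ¬ IsMulCommutative (G ⧸ center G) := fun h =>
      hSna i fun a b => Subtype.ext (h.is_comm.comm _ _)
    have dq : q ∣ Nat.card (G ⧸ center G) := hqN.trans (card_subgroup_dvd_card N)
    have dp : p ∣ Nat.card (G ⧸ center G) := by
      by_contra hc
      apply htop
      refine (h1' ⊥ inferInstance fun P' => ?_).symm
      obtain ⟨a, ha⟩ := IsPGroup.iff_card.1 P'.2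
      rcases Nat.eq_zero_or_pos a with h0 | h0
      · rw [h0, pow_zero] at ha
        exact (eq_bot_of_card_eq _ ha).le
      · exact (hc ((ha ▸ dvd_pow_self p h0.ne').trans (card_subgroup_dvd_card _))).elim
    have hpair := pair_of_com hna hp hq hpq dp dq hcom'
    have hk : IsKnownSimple' (G ⧸ center G) := S0000.result
    have h4 := hMu _ hsim hna hk p q hpair G f ⟨hf, hfk.le, by rw [hperf]; exact le_top⟩
    rw [hfk] at h4
    exact hz_quot hM (center G) h4 (hFw _ hsim hna hk p q M hM hpair)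

end Cfsg.Agent.PQ.Red
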